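import Cfsg.Agent.SubdegThree.SDEnd.Rep

/-!
# The semidihedral endgame: what the small representation says about the centraliser of `W`
-/

set_option autoImplicit false

namespace Cfsg.Agent.SubdegThree.SDEnd

open Cfsg.Agent.InvolGL23
open Finset Module

universe u

local notation "GL23" => Matrix.GeneralLinearGroup (Fin 2) (ZMod 3)

variable {K : Type u} [Group K] [Finite K] {z v h : K}
  {π : ↥(Subgroup.centralizer ({z} : Set K)) →* GL23}
  {V : Type*} [AddCommGroup V] [Module ℂ V] [FiniteDimensional ℂ V]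

namespace Hyp

variable (H : Hyp z v h π) {R : K →* Module.End ℂ V} {n : ℕ} (hR : SmallRep π R n)
include H hR

/-- The centraliser of a nontrivial element of `W` centralises `W`. -/
theorem cent {w : ↥(Subgroup.centralizer ({z} : Set K))} (hw : w ∈ π.ker) (hw1 : w ≠ 1)
    {x : K} (hx : Commute x (w : K)) {b : ↥(Subgroup.centralizer ({z} : Set K))} (hb : b ∈ π.ker) :
    Commute x (b : K) := by
  obtain ⟨k, P, hsum, hP⟩ := H.pieces hR hw hw1
  have key : Commute (R x) (R (b : K)) := by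
    rw [show R (b : K) = ∑ i ∈ range k, R (b : K) * P i by rw [← Finset.mul_sum, hsum, mul_one]]
    refine Commute.sum_right _ _ _ fun i hi => ?_
    obtain ⟨-, hc, hp⟩ := hP i hi
    rcases hp with ⟨-, h1⟩ | h0 | ⟨-, -, h1⟩
    · rw [h1 b hb]; exact hc x hx
    · rw [h0, mul_zero]; exact Commute.zero_right _
    · obtain ⟨l, hl⟩ := h1 b hb
      rw [hl]; exact (hc x hx).smul_right _
  refine hR.inj ?_
  rw [map_mul, map_mul, key.eq]

/-- A commutator from the centraliser of `W` lying in `W` is trivial. -/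
theorem comm_eq_one {w : ↥(Subgroup.centralizer ({z} : Set K))} (hw : w ∈ π.ker) (hw1 : w ≠ 1)
    {x y : K} (hx : Commute x (w : K)) (hy : Commute y (w : K))
    {c : ↥(Subgroup.centralizer ({z} : Set K))} (hc : c ∈ π.ker) (hxy : x * y = (c : K) * y * x) : c = 1 := by
  obtain ⟨k, P, hsum, hP⟩ := H.pieces hR hw hw1
  refine Subtype.ext (hR.inj ?_)
  rw [Subgroup.coe_one, map_one]
  conv_lhs => rw [← mul_one (R (c : K)), ← hsum, Finset.mul_sum]
  rw [← hsum]
  refine Finset.sum_congr rfl fun i hi => ?_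
  obtain ⟨hidem, hcm, hp⟩ := hP i hi
  rcases hp with ⟨-, h1⟩ | h0 | ⟨h4, -, h1⟩
  · exact h1 c hc
  · rw [h0, mul_zero]
  · obtain ⟨l, hl⟩ := h1 c hc
    have hr : finrank ℂ (LinearMap.range (P i)) = 4 := by
      rw [trace_idem hidem] at h4; exact_mod_cast h4
    have hdet := comm_det (μ := l) hidem (map_inv_mul (R := R) x) (map_inv_mul (R := R) y) (hcm x hx)
      (hcm _ hx.inv_left) (hcm y hy) (hcm _ hy.inv_left) (by
        rw [← map_mul, ← map_mul, hxy,
          show (c : K) * y * x = y * x * (c : K) from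
            ((((H.cent hR hw hw1 hy hc).mul_left (H.cent hR hw hw1 hx hc))).symm.eq ▸ mul_assoc _ _ _),
          map_mul _ (y * x), mul_assoc, hl, mul_smul_comm])
    rw [hr] at hdet
    have hpw : l ^ orderOf c = 1 := by
      have e : ∀ j : ℕ, R (c : K) ^ j * P i = l ^ j • P i := by
        intro j
        induction j with
        | zero => rw [pow_zero, pow_zero, one_mul, one_smul]
        | succ j ih => rw [pow_succ, mul_assoc, hl, mul_smul_comm, ih, smul_smul, pow_succ']
      have h5 := e (orderOf c)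
      rw [← map_pow, ← Subgroup.coe_pow, pow_orderOf_eq_one, Subgroup.coe_one, map_one, one_mul] at h5
      have hne : P i ≠ 0 := fun e0 => by rw [e0, map_zero] at h4; norm_num at h4
      by_contra hne1
      have h6 : (l ^ orderOf c - 1) • P i = 0 := by rw [sub_smul, one_smul, ← h5, sub_self]
      exact hne ((smul_eq_zero.1 h6).resolve_left (sub_ne_zero.2 hne1))
    have hl1 : l = 1 := by
      obtain ⟨j, hj⟩ := Nat.odd_iff.2 (Nat.odd_iff.1 (H.hodd.of_dvd_nat
        (orderOf_dvd_of_pow_eq_one (H.pow_card hc))))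
      refine orderOf_eq_one_iff.1 (Nat.eq_one_of_dvd_coprimes ?_ (orderOf_dvd_of_pow_eq_one hdet)
        (orderOf_dvd_of_pow_eq_one hpw))
      rw [hj, show (4 : ℕ) = 2 ^ 2 by norm_num]
      exact Nat.Coprime.pow_left 2 (Nat.coprime_two_left.2 ⟨j, rfl⟩)
    rw [hl, hl1, one_smul]

/-- No group of order nine inverted by `z` is permuted transitively inside the centraliser of `w`. -/
theorem no_nine {w : ↥(Subgroup.centralizer ({z} : Set K))} (hw : w ∈ π.ker) (hw1 : w ≠ 1)
    (E : Subgroup K) (hcard : Nat.card E = 9) (h3 : ∀ e ∈ E, e ^ 3 = 1)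
    (hinv : ∀ e ∈ E, z * e * z = e⁻¹) (hEw : ∀ e ∈ E, Commute e (w : K))
    (htrans : ∀ e ∈ E, e ≠ 1 → ∀ e' ∈ E, e' ≠ 1 → ∃ x : K, Commute x (w : K) ∧ x * e * x⁻¹ = e') :
    False := by
  classical
  have : Fintype K := Fintype.ofFinite K
  obtain ⟨k, P, hsum, hP⟩ := H.pieces hR hw hw1
  obtain ⟨e, heE, he1⟩ : ∃ e ∈ E, e ≠ 1 := by
    by_contra hh
    push Not at hh
    rw [(Subgroup.eq_bot_iff_forall E).2 hh, Subgroup.card_bot] at hcard
    omega
  suffices hfix : ∀ i ∈ range k, R e * P i = P i by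
    refine he1 (hR.inj ?_)
    rw [map_one, ← mul_one (R e), ← hsum, Finset.mul_sum]
    exact Finset.sum_congr rfl hfix
  intro i hi
  obtain ⟨hidem, hcm, hp⟩ := hP i hi
  have cE : ∀ a ∈ E, Commute (R a) (P i) := fun a ha => hcm a (hEw a ha)
  have cz : Commute (R z) (P i) := hcm z H.z_comm_ker
  have he3 : e * e * e = 1 := by rw [← h3 e heE, pow_succ, sq]
  rcases hp with ⟨hzP, -⟩ | h0 | ⟨h4, hz4, -⟩
  · -- `z` is trivial here
    have h1 : R e⁻¹ * P i = R e * P i := by
      rw [← hinv e heE, map_mul, map_mul, mul_assoc, hzP, mul_assoc, (cE e heE).eq, ← mul_assoc, hzP]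
    have h2 : R (e * e) * P i = P i := by
      rw [map_mul, mul_assoc, ← h1, ← mul_assoc, ← map_mul, mul_inv_cancel, map_one, one_mul]
    calc R e * P i = R e * (R (e * e) * P i) := by rw [h2]
      _ = P i := by rw [← mul_assoc, ← map_mul, ← mul_assoc, he3, map_one, one_mul]
  · rw [h0, mul_zero]
  · set x := LinearMap.trace ℂ V (R e * P i) with hx
    have hconst : ∀ a ∈ E, a ≠ 1 → LinearMap.trace ℂ V (R a * P i) = x := by
      intro a ha ha1
      obtain ⟨g, hg, rfl⟩ := htrans e heE he1 a ha ha1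
      rw [R.map_mul, R.map_mul, mul_assoc, (hcm g⁻¹ hg.inv_left).eq, ← mul_assoc,
        LinearMap.trace_mul_comm, mul_assoc, ← mul_assoc (R g⁻¹), map_inv_mul g, one_mul, hx]
    have hee : e * e ≠ 1 := fun h2 => he1 (by rw [h2, one_mul] at he3; exact he3)
    have hA3 : R e ^ 3 = 1 := by rw [← map_pow, h3 e heE, map_one]
    have htr3 : ∀ ε : ℂ, LinearMap.trace ℂ V (proj 3 (R e) ε * P i) = (3 : ℂ)⁻¹ * (4 + (ε⁻¹ + ε⁻¹ ^ 2) * x) := by
      intro ε
      simp only [proj, Finset.sum_range_succ, Finset.sum_range_zero, zero_add, pow_zero, pow_one, one_smul,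
        smul_mul_assoc, add_mul, one_mul, map_smul, map_add, smul_eq_mul, h4, ← map_pow,
        hconst e heE he1, hconst (e ^ 2) (pow_mem heE 2) (by rwa [sq])]
      simp only [map_one, one_mul, h4]
      push_cast
      ring
    have hidem3 : ∀ ε : ℂ, ε ^ 3 = 1 → proj 3 (R e) ε * P i * (proj 3 (R e) ε * P i) = proj 3 (R e) ε * P i := by
      intro ε hε
      have c : Commute (P i) (proj 3 (R e) ε) := commute_proj (cE e heE).symm _
      rw [mul_assoc, ← mul_assoc (P i), c.eq, mul_assoc (proj 3 (R e) ε) (P i), hidem, ← mul_assoc,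
        proj_idem hA3 hε (by norm_num)]
    obtain ⟨ω, hω⟩ : ∃ ω : ℂ, IsPrimitiveRoot ω 3 := ⟨_, Complex.isPrimitiveRoot_exp 3 (by norm_num)⟩
    have hω' : ω⁻¹ + ω⁻¹ ^ 2 = -1 := by
      have h := geom_zero (k := 3) (ε := ω⁻¹) (by rw [inv_pow, hω.pow_eq_one, inv_one])
        (fun h1 => hω.ne_one (by norm_num) (inv_eq_one.1 h1))
      simp only [Finset.sum_range_succ, Finset.sum_range_zero, zero_add, pow_zero, pow_one] at h
      linear_combination h
    have m1 := (htr3 1).symm.trans (trace_idem (hidem3 1 (one_pow _)))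
    have m3 := (htr3 ω).symm.trans (trace_idem (hidem3 ω hω.pow_eq_one))
    rw [hω'] at m3
    simp only [inv_one, one_pow] at m1
    -- the average over `E`
    have : Fintype E := Fintype.ofFinite E
    set S : Module.End ℂ V := (9 : ℂ)⁻¹ • ∑ a : E, R (a : K) with hS
    have hS2 : S * S = S := by
      rw [hS, smul_mul_assoc, Finset.sum_mul,
        Finset.sum_congr rfl (g := fun _ : E => (9 : ℂ)⁻¹ • ∑ a : E, R (a : K)) (fun a _ => by
          rw [mul_smul_comm, Finset.mul_sum]
          congr 1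
          refine Fintype.sum_equiv (Equiv.mulLeft a) _ _ fun b => ?_
          simp [map_mul]),
        Finset.sum_const, Finset.card_univ, ← Nat.card_eq_fintype_card, hcard, ← Nat.cast_smul_eq_nsmul ℂ,
        smul_smul, Nat.cast_ofNat, inv_mul_cancel₀ (by norm_num : (9 : ℂ) ≠ 0), one_smul]
    have cS : Commute S (P i) := (Commute.sum_left (Finset.univ : Finset E) (fun a : E => R (a : K)) _
      (fun a _ => cE (a : K) a.2)).smul_left _
    have hidem9 : S * P i * (S * P i) = S * P i := by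
      rw [mul_assoc, ← mul_assoc (P i), ← cS.eq, mul_assoc S (P i), hidem, ← mul_assoc, hS2]
    have m2 : LinearMap.trace ℂ V (S * P i) = (9 : ℂ)⁻¹ * (4 + 8 * x) := by
      rw [hS, smul_mul_assoc, Finset.sum_mul, map_smul, map_sum,
        ← Finset.add_sum_erase _ _ (Finset.mem_univ (1 : E)), Subgroup.coe_one, map_one, one_mul, h4,
        Finset.sum_congr rfl (g := fun _ : E => x) (fun a ha =>
          hconst (a : K) (SetLike.coe_mem a) fun h1 => Finset.ne_of_mem_erase ha (Subtype.ext h1)),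
        Finset.sum_const, Finset.card_erase_of_mem (Finset.mem_univ _), Finset.card_univ,
        ← Nat.card_eq_fintype_card, hcard, smul_eq_mul, nsmul_eq_mul]
      norm_num
    rw [trace_idem hidem9] at m2
    have n1 := congrArg (fun t => t) m1
    obtain ⟨a₁, ha₁⟩ : ∃ a : ℕ, a = finrank ℂ (LinearMap.range (proj 3 (R e) 1 * P i)) := ⟨_, rfl⟩
    obtain ⟨a₂, ha₂⟩ : ∃ a : ℕ, a = finrank ℂ (LinearMap.range (S * P i)) := ⟨_, rfl⟩
    obtain ⟨a₃, ha₃⟩ : ∃ a : ℕ, a = finrank ℂ (LinearMap.range (proj 3 (R e) ω * P i)) := ⟨_, rfl⟩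
    rw [← ha₁] at m1
    rw [← ha₂] at m2
    rw [← ha₃] at m3
    have q1 : a₁ + 2 * a₃ = 4 := by
      have : ((a₁ + 2 * a₃ : ℕ) : ℂ) = ((4 : ℕ) : ℂ) := by
        push_cast; linear_combination -m1 - (2 : ℂ) * m3
      exact_mod_cast this
    have q2 : 3 * a₂ + 8 * a₃ = 12 := by
      have : ((3 * a₂ + 8 * a₃ : ℕ) : ℂ) = ((12 : ℕ) : ℂ) := by
        push_cast; linear_combination (3 : ℂ) * m2 - (8 : ℂ) * m3
      exact_mod_cast this
    have h30 : a₃ = 0 := by omega
    have heq : proj 3 (R e) 1 * P i = P i := by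
      refine eq_of_trace_eq hidem (hidem3 1 (one_pow _)) ?_ (by rw [mul_assoc, hidem]) ?_
      · rw [← mul_assoc, show P i * proj 3 (R e) 1 = proj 3 (R e) 1 * P i from
          (commute_proj (cE e heE).symm _).eq, mul_assoc, hidem]
      · rw [trace_idem (hidem3 1 (one_pow _)), ← ha₁, h4, show a₁ = 4 by omega]
        norm_num
    conv_lhs => rw [← heq]
    rw [← mul_assoc, mul_proj hA3 (one_pow _) (by norm_num), one_smul, heq]

end Hyp

end Cfsg.Agent.SubdegThree.SDEnd
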