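import Cfsg.Agent.SubdegThree.SDEnd.Induce
import Cfsg.Agent.InvolGL23.Comb
import Cfsg.Agent.Invol.Section942
import Cfsg.Agent.Blocks.PrincipalPSolvable
import Cfsg.Agent.Fusion.SolvablePSolvable
import Cfsg.Agent.S0144

/-!
# The semidihedral endgame: the orders and a small character

The five induced virtual characters have all their constituents in the principal two-block, so
their constituents are constant on the coset of the odd kernel through the central involution.
-/

set_option autoImplicit false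
open Cfsg

namespace Cfsg.Agent.SubdegThree.SDEnd

open Cfsg.Agent.InvolGL23
open scoped ComplexConjugate

universe u

local notation "GL23" => Matrix.GeneralLinearGroup (Fin 2) (ZMod 3)

/-- An irreducible character not trivial on a normal subgroup sums to zero on its cosets. -/
theorem sum_coset_zero {G : Type u} [Group G] (N : Subgroup G) [N.Normal] [Fintype N] {χ : G → ℂ}
    (hχ : IsIrrCharacter G χ) (hne : ∃ a ∈ N, χ a ≠ χ 1) (g : G) :
    ∑ a : N, χ (g * a) = 0 := by
  classical
  obtain ⟨n, ρ, hirr, rfl⟩ := hχ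
  let U : Submodule ℂ (Fin n → ℂ) :=
    { carrier := {x | ∀ a ∈ N, ρ a x = x}
      zero_mem' := fun a _ => map_zero _
      add_mem' := fun {x y} hx hy a ha => by rw [map_add, hx a ha, hy a ha]
      smul_mem' := fun c x hx a ha => by rw [map_smul, hx a ha] }
  have hU : ∀ k : G, ∀ x ∈ U, ρ k x ∈ U := fun k x hx a ha => by
    show ρ a (ρ k x) = ρ k x
    rw [← Module.End.mul_apply, ← map_mul, show a * k = k * (k⁻¹ * a * k) by group, map_mul,
      Module.End.mul_apply,
      hx _ (by simpa using (inferInstance : N.Normal).conj_mem a ha k⁻¹)]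
  rcases (Char.isIrreducible_iff.1 hirr).2 U hU with hbot | htop
  · have hE : ∑ a : N, ρ (a : G) = 0 := by
      refine LinearMap.ext fun x => ?_
      have hx : (∑ a : N, ρ (a : G)) x ∈ U := fun b hb => by
        simp only [LinearMap.sum_apply, map_sum]
        refine Fintype.sum_equiv (Equiv.mulLeft (⟨b, hb⟩ : N)) _ _ fun a => ?_
        show ρ b (ρ (a : G) x) = ρ ((⟨b, hb⟩ * a : N) : G) x
        rw [Subgroup.coe_mul, map_mul, Module.End.mul_apply]
      rw [hbot, Submodule.mem_bot] at hx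
      rw [hx, LinearMap.zero_apply]
    show ∑ a : N, LinearMap.trace ℂ _ (ρ (g * a)) = 0
    simp only [map_mul]
    rw [← map_sum, ← Finset.mul_sum, hE, mul_zero, map_zero]
  · exfalso
    obtain ⟨a, ha, hne'⟩ := hne
    refine hne' ?_
    have h1 : ρ a = ρ 1 := by
      refine LinearMap.ext fun x => ?_
      have hx : x ∈ U := htop ▸ Submodule.mem_top
      rw [hx a ha, map_one, Module.End.one_apply]
    show LinearMap.trace ℂ _ (ρ a) = LinearMap.trace ℂ _ (ρ 1)
    rw [h1]

theorem solvable_gl23 : Group.IsSolvable GL23 :=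
  S0144.result 2 3 4 1 Nat.prime_two Nat.prime_three (by rw [card_gl23]; norm_num)

variable {K : Type u} [Group K] {z v h : K}
  {π : ↥(Subgroup.centralizer ({z} : Set K)) →* GL23}

namespace Hyp

section
variable [Finite K] (H : Hyp z v h π)
include H

theorem solvable : Group.IsSolvable (Subgroup.centralizer ({z} : Set K)) := by
  haveI := solvable_gl23
  haveI : Group.IsSolvable π.ker :=
    isSolvable_of_comm fun a b => Subtype.ext (H.ker_comm a.2 b.2)
  exact solvable_of_ker_le_range π.ker.subtype π (by rw [Subgroup.range_subtype])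

/-- A subgroup of odd order invariant under determinant one lies in the kernel. -/
theorem le_ker {N : Subgroup (Subgroup.centralizer ({z} : Set K))} (hodd : Odd (Nat.card N))
    (hnorm : ∀ c : Subgroup.centralizer ({z} : Set K), qdet (toQ (π c)) = 1 → ∀ a ∈ N, c * a * c⁻¹ ∈ N) :
    N ≤ π.ker := by
  have key : ∀ a ∈ N, qpow (toQ (π a)) 3 = qone := by
    intro a ha
    have hdvd : orderOf (π a) ∣ Nat.card N :=
      (orderOf_map_dvd π a).trans (Subgroup.orderOf_dvd_natCard _ ha)
    have hd48 : orderOf (π a) ∣ 48 := card_gl23 ▸ orderOf_dvd_natCard _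
    obtain ⟨k, hk⟩ := hdvd
    rw [hk] at hodd
    refine pow_three_of_pow_odd _ (toQ_mem _) _ (Finset.mem_range.2 ?_) (Nat.odd_iff.1 (Nat.odd_mul.1 hodd).1) ?_
    · rcases (Nat.le_of_dvd (by norm_num) hd48).lt_or_eq with h | h
      · exact h
      · exfalso
        have := Nat.odd_iff.1 (Nat.odd_mul.1 hodd).1
        omega
    · rw [← toQ_pow, pow_orderOf_eq_one, toQ_one]
  intro a ha
  rw [MonoidHom.mem_ker]
  by_contra hne
  obtain ⟨q, hq, hdet, q', hq', hgq, hno⟩ :=
    three_not_normal _ (toQ_mem (π a)) (key a ha) fun e => hne (toQ_injective (e.trans toQ_one.symm))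
  obtain ⟨g, rfl⟩ := toQ_surj hq
  obtain ⟨c, rfl⟩ := H.hsurj g
  obtain ⟨g', rfl⟩ := toQ_surj hq'
  rw [← toQ_mul, ← toQ_mul] at hgq
  have hg' : g' = π (c * a * c⁻¹) := by
    rw [map_mul, map_mul, map_inv, toQ_injective hgq, mul_inv_cancel_right]
  have := key _ (mul_mem ha (hnorm c hdet a ha))
  rw [map_mul, toQ_mul, ← hg'] at this
  exact hno this

theorem primeCore_le : pPrimeCore 2 (Subgroup.centralizer ({z} : Set K)) ≤ π.ker := by
  refine sSup_le ?_
  rintro N ⟨hN, hco⟩
  exact H.le_ker (Nat.coprime_two_right.1 hco) fun c _ a ha => hN.conj_mem a ha c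

end

variable [Fintype K] (H : Hyp z v h π) {M : Ideal AlgInt} (hM : IsPModular 2 M)
include H hM

/-- Principal block characters are constant on the coset of the kernel through `z`. -/
theorem constant_on {χ : IrrCharacter K} (hχ : χ ∈ principalBlock M K)
    {a : Subgroup.centralizer ({z} : Set K)} (ha : a ∈ π.ker) :
    (χ : K → ℂ) (z * (a : K)) = (χ : K → ℂ) z :=
  Invol.section_constant hM ⟨1, by rw [H.hz, pow_one]⟩ π.ker
    (Nat.two_dvd_ne_zero.2 (Nat.odd_iff.1 H.hodd)) hχ ha

open scoped Classical in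
/-- Outside the principal block the special fibres sum to zero. -/
theorem fibre_sum_zero {ψ : IrrCharacter K} (hψ : ψ ∉ principalBlock M K) {q : Q} (hq : q ∈ els)
    {j : ℕ} (hj : j ∈ Finset.range 8) (hqj : qpow q j = qneg) :
    ∑ c ∈ (Finset.univ.filter fun c : Subgroup.centralizer ({z} : Set K) => toQ (π c) = q),
      (ψ : K → ℂ) (c : K) = 0 := by
  rcases special_cases q hq j hj hqj with h3 | ⟨h8, hqn, hcen⟩
  · -- minus an element of odd order
    obtain ⟨g, rfl⟩ := toQ_surj hq
    obtain ⟨c₀, rfl⟩ := H.hsurj g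
    set zc : Subgroup.centralizer ({z} : Set K) := ⟨z, z_mem⟩ with hzc
    have hzz : zc * zc = 1 := Subtype.ext H.z_sq
    set b₀ : Subgroup.centralizer ({z} : Set K) := zc * c₀ with hb₀
    have hreg : ∀ a ∈ π.ker, ¬ 2 ∣ orderOf (b₀ * a) := by
      intro a ha hdvd
      have hk : (b₀ * a) ^ 3 ∈ π.ker := by
        rw [MonoidHom.mem_ker, map_pow]
        refine toQ_injective ?_
        rw [map_mul, MonoidHom.mem_ker.1 ha, mul_one, toQ_pow, hb₀, map_mul, toQ_mul, hzc, H.pi_z, h3, toQ_one]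
      have h1 : (b₀ * a) ^ (3 * Nat.card π.ker) = 1 := by rw [pow_mul, H.pow_card hk]
      have h2 := hdvd.trans (orderOf_dvd_of_pow_eq_one h1)
      rcases (Nat.prime_two.dvd_mul).1 h2 with h | h
      · omega
      · exact Nat.two_dvd_ne_zero.2 (Nat.odd_iff.1 H.hodd) h
    have hbij : ∑ c ∈ (Finset.univ.filter fun c : Subgroup.centralizer ({z} : Set K) => toQ (π c) = toQ (π c₀)),
        (ψ : K → ℂ) (c : K) = ∑ a : π.ker, (ψ : K → ℂ) (z * ((b₀ * (a : Subgroup.centralizer ({z} : Set K)) :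
          Subgroup.centralizer ({z} : Set K)) : K)) := by
      refine (Finset.sum_bij (fun (a : π.ker) _ => c₀ * (a : Subgroup.centralizer ({z} : Set K)))
        (fun a _ => Finset.mem_filter.2 ⟨Finset.mem_univ _, by rw [map_mul, MonoidHom.mem_ker.1 a.2, mul_one]⟩)
        (fun a _ b _ e => Subtype.ext (mul_left_cancel e)) (fun c hc => ?_) (fun a _ => ?_)).symm
      · refine ⟨⟨c₀⁻¹ * c, ?_⟩, Finset.mem_univ _, mul_inv_cancel_left _ _⟩
        rw [MonoidHom.mem_ker, map_mul, map_inv, toQ_injective (Finset.mem_filter.1 hc).2, inv_mul_cancel]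
      · show _ = (ψ : K → ℂ) ((c₀ * (a : Subgroup.centralizer ({z} : Set K)) :
          Subgroup.centralizer ({z} : Set K)) : K)
        congr 1
        simp only [hb₀, hzc, Subgroup.coe_mul, ← mul_assoc, H.z_sq, one_mul]
    rw [hbij, Finset.sum_congr rfl fun a _ => Invol.shift_eq_sum hM ⟨1, by rw [H.hz, pow_one]⟩
      (Blocks.isPBlock_blockOf ψ) (Blocks.mem_blockOf_self hM ψ) (hreg _ a.2), Finset.sum_comm]
    refine Finset.sum_eq_zero fun χ hχ => ?_
    rw [← Finset.mul_sum]
    refine mul_eq_zero_of_right _ (sum_coset_zero π.ker χ.2 ?_ b₀)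
    have hχ0 : χ ∉ principalBlock M (Subgroup.centralizer ({z} : Set K)) := fun h => by
      have h1 := (Finset.mem_filter.1 hχ).2
      have h2 := (Invol.induced_principal_iff hM ⟨1, by rw [H.hz, pow_one]⟩).2 h
      refine hψ (Blocks.mem_blockOf.2 fun g => ?_)
      have e1 := h1.2.2 χ (Blocks.mem_blockOf_self hM χ) ψ (Blocks.mem_blockOf_self hM ψ) g
      have e2 := h2.2.2 χ (Blocks.mem_blockOf_self hM χ) (Blocks.triv K)
        (Blocks.triv_mem_principalBlock hM) g
      simpa [Blocks.triv] using Blocks.memLocalIdeal_sub hM e1 e2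
    have : Fact (Nat.Prime 2) := ⟨Nat.prime_two⟩
    haveI := H.solvable
    rw [Blocks.mem_principalBlock_iff_of_isPSolvable hM (Fusion.isPSolvable_of_isSolvable _)] at hχ0
    push Not at hχ0
    obtain ⟨a, ha, hne⟩ := hχ0
    exact ⟨a, H.primeCore_le ha, hne⟩
  · -- an element of order four or eight
    obtain ⟨s, hs, hs8⟩ := H.exists_lift hq h8
    subst hs
    have hsz : s ^ j = (⟨z, z_mem⟩ : Subgroup.centralizer ({z} : Set K)) := by
      have hp : toQ (π (s ^ j)) = qneg := by rw [map_pow, toQ_pow, hqj]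
      refine H.eq_z ?_ hp
      have hk : s ^ j * s ^ j ∈ π.ker := by
        rw [MonoidHom.mem_ker, map_mul]
        exact toQ_injective (by rw [toQ_mul, hp, toQ_one]; decide)
      refine orderOf_eq_one_iff.1 (Nat.eq_one_of_dvd_coprimes
        ((Nat.coprime_two_left.2 H.hodd).pow_left 3) (orderOf_dvd_of_pow_eq_one ?_)
        (orderOf_dvd_of_pow_eq_one (H.pow_card hk)))
      rw [← pow_add, ← pow_mul, mul_comm, pow_mul, show (2 : ℕ) ^ 3 = 8 by norm_num, hs8, one_pow]
    have hu : ∃ k, orderOf (s : K) = 2 ^ k := by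
      obtain ⟨k, -, hk⟩ := (Nat.dvd_prime_pow Nat.prime_two).1
        (show orderOf s ∣ 2 ^ 3 from orderOf_dvd_of_pow_eq_one (by norm_num [hs8]))
      exact ⟨k, by rw [Subgroup.orderOf_coe, hk]⟩
    have hsum := Invol.section_sum_eq_zero hM hu hψ
    have hsub : ∀ y : Subgroup.centralizer ({(s : K)} : Set K), ¬ 2 ∣ orderOf y →
        ∃ c : Subgroup.centralizer ({z} : Set K), (c : K) = y ∧ c ∈ π.ker := by
      intro y hy
      have hys : Commute (y : K) (s : K) := Subgroup.mem_centralizer_singleton_iff.1 y.2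
      have hyz : (y : K) ∈ Subgroup.centralizer ({z} : Set K) := by
        rw [Subgroup.mem_centralizer_singleton_iff]
        have := (hys.pow_right j).eq
        rwa [← Subgroup.coe_pow, hsz] at this
      refine ⟨⟨y, hyz⟩, rfl, ?_⟩
      have hc : qmul (toQ (π s)) (toQ (π ⟨y, hyz⟩)) = qmul (toQ (π ⟨y, hyz⟩)) (toQ (π s)) := by
        rw [← toQ_mul, ← toQ_mul, ← map_mul, ← map_mul]
        exact congrArg (fun c => toQ (π c)) (Subtype.ext hys.symm.eq)
      have h8' := hcen _ (toQ_mem _) hc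
      rw [← toQ_pow, ← toQ_one] at h8'
      rw [MonoidHom.mem_ker]
      refine orderOf_eq_one_iff.1 (Nat.eq_one_of_dvd_coprimes (Nat.Coprime.pow_left 3 ?_)
        (show orderOf (π ⟨y, hyz⟩) ∣ 2 ^ 3 from orderOf_dvd_of_pow_eq_one (toQ_injective h8'))
        ((orderOf_map_dvd π ⟨y, hyz⟩).trans (show orderOf (⟨y, hyz⟩ : Subgroup.centralizer ({z} : Set K)) ∣
          orderOf y by rw [← Subgroup.orderOf_coe, ← Subgroup.orderOf_coe])))
      exact Nat.coprime_two_left.2 (Nat.odd_iff.2 (Nat.two_dvd_ne_zero.1 hy))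
    rcases det_cases _ (toQ_mem (π s)) with hd | hd
    · -- the whole kernel centralises the lift
      refine Eq.trans ?_ hsum
      refine Finset.sum_bij'
        (fun c hc => (⟨((s⁻¹ * c : Subgroup.centralizer ({z} : Set K)) : K), ?_⟩ :
          Subgroup.centralizer ({(s : K)} : Set K)))
        (fun y hy => (⟨(s : K) * y, mul_mem s.2 (by
          obtain ⟨c, hc, -⟩ := hsub y (Finset.mem_filter.1 hy).2
          exact hc ▸ c.2)⟩ : Subgroup.centralizer ({z} : Set K))) ?_ ?_ ?_ ?_ ?_
      · have hk : s⁻¹ * c ∈ π.ker := by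
          rw [MonoidHom.mem_ker, map_mul, map_inv, toQ_injective (Finset.mem_filter.1 hc).2, inv_mul_cancel]
        exact Subgroup.mem_centralizer_singleton_iff.2
          (congrArg Subtype.val (H.comm_of_det hd hk).symm)
      · intro c hc
        have hk : s⁻¹ * c ∈ π.ker := by
          rw [MonoidHom.mem_ker, map_mul, map_inv, toQ_injective (Finset.mem_filter.1 hc).2, inv_mul_cancel]
        refine Finset.mem_filter.2 ⟨Finset.mem_univ _, fun h2 => ?_⟩
        rw [← Subgroup.orderOf_coe, Subgroup.coe_mk, Subgroup.orderOf_coe] at h2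
        exact Nat.two_dvd_ne_zero.2 (Nat.odd_iff.1 H.hodd)
          (h2.trans (orderOf_dvd_of_pow_eq_one (H.pow_card hk)))
      · intro y hy
        refine Finset.mem_filter.2 ⟨Finset.mem_univ _, ?_⟩
        obtain ⟨c, hc, hck⟩ := hsub y (Finset.mem_filter.1 hy).2
        rw [show (⟨(s : K) * y, _⟩ : Subgroup.centralizer ({z} : Set K)) = s * c from Subtype.ext (by simp [hc]),
          map_mul, MonoidHom.mem_ker.1 hck, mul_one]
      · intro c hc
        exact Subtype.ext (by simp)
      · intro y hy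
        exact Subtype.ext (by simp)
      · intro c hc
        simp
    · -- the lift inverts the kernel
      have hone : (ψ : K → ℂ) (s : K) = 0 := by
        rw [Finset.sum_eq_single (1 : Subgroup.centralizer ({(s : K)} : Set K))] at hsum
        · simpa using hsum
        · intro y hy hy1
          exfalso
          obtain ⟨c, hc, hck⟩ := hsub y (Finset.mem_filter.1 hy).2
          have h1 := H.conj_ker (c := s) hck
          rw [if_neg (by rw [hd]; decide)] at h1
          have h2 : s * c * s⁻¹ = c := Subtype.ext (by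
            simp only [Subgroup.coe_mul, Subgroup.coe_inv, hc]
            rw [← Subgroup.mem_centralizer_singleton_iff.1 y.2, mul_inv_cancel_right])
          rw [h2] at h1
          have hc1 : c = 1 := H.eq_one hck (by nth_rewrite 1 [h1]; exact inv_mul_cancel c)
          exact hy1 (Subtype.ext (by rw [← hc, hc1]; rfl))
        · intro hh
          exact absurd (Finset.mem_filter.2 ⟨Finset.mem_univ _, by simp⟩) hh
      refine Finset.sum_eq_zero fun c hc => ?_
      have hk : s⁻¹ * c ∈ π.ker := by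
        rw [MonoidHom.mem_ker, map_mul, map_inv, toQ_injective (Finset.mem_filter.1 hc).2, inv_mul_cancel]
      obtain ⟨b, hb, hbb⟩ := H.exists_sqrt hk
      have h1 := H.conj_ker (c := s) hb
      rw [if_neg (by rw [hd]; decide), mul_inv_eq_iff_eq_mul] at h1
      have hc' : c = b⁻¹ * s * b := by
        rw [← h1, mul_assoc, hbb, mul_inv_cancel_left]
      rw [hc', ← hone]
      have := Char.isClassFunction_of_isIrr ψ.2 (s : K) ((b⁻¹ : Subgroup.centralizer ({z} : Set K)) : K)
      simpa using this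

/-- A constituent of an induced virtual character lies in the principal block. -/
theorem mem_principal {i : Fin 5} {ψ : IrrCharacter K}
    (hne : classInner (ind π i) (ψ : K → ℂ) ≠ 0) : ψ ∈ principalBlock M K := by
  classical
  by_contra hψ
  refine hne ?_
  rw [ind, Char.classInner_indFun_left _ _ (Char.isClassFunction_of_isIrr ψ.2), classInner,
    ← Finset.sum_fiberwise_of_maps_to (t := els) (g := fun c => toQ (π c)) (fun c _ => toQ_mem _)]
  refine mul_eq_zero_of_right _ (Finset.sum_eq_zero fun q hq => ?_)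
  by_cases h0 : vf i q = 0
  · refine Finset.sum_eq_zero fun c hc => ?_
    rw [phi, theta, (Finset.mem_filter.1 hc).2, h0, map_zero, zero_mul]
  · obtain ⟨j, hj, hqj⟩ := vf_support i q hq h0
    rw [Finset.sum_congr rfl fun c hc => by rw [phi, theta, (Finset.mem_filter.1 hc).2], ← Finset.mul_sum,
      ← map_sum, H.fibre_sum_zero hM hψ hq hj hqj, map_zero, mul_zero]

end Hyp

namespace Hyp

variable [Fintype K] (H : Hyp z v h π)
include H

/-- The indicator of the coset of the kernel through `z`. -/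
theorem value_eq (ψ : IrrCharacter K)
    (hc : ∀ a ∈ π.ker, (ψ : K → ℂ) (z * (a : K)) = (ψ : K → ℂ) z) :
    ∑ i, (coeff i : ℂ) * classInner (ind π i) (ψ : K → ℂ) = conj ((ψ : K → ℂ) z) := by
  classical
  simp only [ind, Char.classInner_indFun_left _ _ (Char.isClassFunction_of_isIrr ψ.2)]
  simp only [classInner, H.card_C, Finset.mul_sum]
  rw [Finset.sum_comm]
  have hsum : ∀ c : Subgroup.centralizer ({z} : Set K),
      ∑ i, (coeff i : ℂ) * (((↑(48 * Nat.card π.ker) : ℂ))⁻¹ * (phi π i c * conj ((ψ : K → ℂ) c))) =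
        if toQ (π c) = qneg then (Nat.card π.ker : ℂ)⁻¹ * conj ((ψ : K → ℂ) z) else 0 := by
    intro c
    have h := congrArg toC (vf_indicator _ (toQ_mem (π c)))
    simp only [map_sum, map_mul, map_intCast] at h
    have h' : ∑ i, (coeff i : ℂ) * (((↑(48 * Nat.card π.ker) : ℂ))⁻¹ * (phi π i c * conj ((ψ : K → ℂ) c))) =
        ((↑(48 * Nat.card π.ker) : ℂ))⁻¹ * (toC (if toQ (π c) = qneg then 48 else 0) * conj ((ψ : K → ℂ) c)) := by
      rw [← h, Finset.sum_mul, Finset.mul_sum]
      exact Finset.sum_congr rfl fun i _ => by simp only [phi, theta]; ring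
    rw [h']
    split_ifs with hq
    · have hk : (⟨z, z_mem⟩ : Subgroup.centralizer ({z} : Set K)) * c ∈ π.ker := by
        rw [MonoidHom.mem_ker, map_mul, toQ_injective (hq.trans H.pi_z.symm), ← map_mul,
          show (⟨z, z_mem⟩ : Subgroup.centralizer ({z} : Set K)) * ⟨z, z_mem⟩ = 1 from Subtype.ext H.z_sq,
          map_one]
      have he := hc _ hk
      simp only [Subgroup.coe_mul, ← mul_assoc, H.z_sq, one_mul] at he
      rw [he, map_ofNat]
      push_cast
      field_simp
    · rw [map_zero, zero_mul, mul_zero]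
  rw [Finset.sum_congr rfl fun c _ => hsum c, ← Finset.sum_filter, Finset.sum_const,
    H.card_fibre qneg_central.1, nsmul_eq_mul, ← mul_assoc,
    mul_inv_cancel₀ (Nat.cast_ne_zero.2 Nat.card_pos.ne'), one_mul]

omit [Fintype K] H in
theorem solveW {N w : ℕ} (hw : Odd w) {X F : ℤ} (hF : F ≠ 0) (hF1 : F + 1 ≠ 0) (hX : X ≠ 0)
    (hG : 1 + X + F ≠ 0) (h16 : N % 32 = 16)
    (eP : (N : ℚ) * (1 + 16 / F - 9 / (F + 1)) = 9216 * (w : ℚ) ^ 3)
    (eR : (N : ℚ) * (1 + 4 / X + 16 / F - 1 / (1 + X + F)) = 13824 * (w : ℚ) ^ 3) :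
    (F = 12 ∧ N = 5616 * w ^ 3) ∨ (X = 10 ∧ N = 7920 * w ^ 3) := by
  have hFq : (F : ℚ) ≠ 0 := by exact_mod_cast hF
  have hF1q : (F : ℚ) + 1 ≠ 0 := by exact_mod_cast hF1
  have hXq : (X : ℚ) ≠ 0 := by exact_mod_cast hX
  have hGq : 1 + (X : ℚ) + F ≠ 0 := by exact_mod_cast hG
  have hN : (N : ℚ) ≠ 0 := Nat.cast_ne_zero.2 (by omega)
  have hz : (N : ℤ) * (F + 4) ^ 2 = 9216 * (w : ℤ) ^ 3 * F * (F + 1) := by
    have : (N : ℚ) * ((F : ℚ) + 4) ^ 2 = 9216 * (w : ℚ) ^ 3 * F * (F + 1) := by
      field_simp at eP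
      linear_combination eP
    exact_mod_cast this
  have hu : ((F - 8) * (1 + X + F) - F * (F + 1)) * ((F - 2) * (1 + X + F) + 2 * (F + 1)) = 0 := by
    have h2 : (N : ℚ) * ((4 / X - 1 / (1 + X + F)) - (1 / 2 + 8 / F - 27 / 2 / (F + 1))) = 0 := by
      linear_combination eR - (3 / 2 : ℚ) * eP
    have h3 := (mul_eq_zero.1 h2).resolve_left hN
    field_simp at h3
    have : (((F : ℚ) - 8) * (1 + X + F) - F * (F + 1)) * ((F - 2) * (1 + X + F) + 2 * (F + 1)) = 0 := by
      linear_combination -h3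
    exact_mod_cast this
  -- the two-part
  obtain ⟨g, hg, hgodd⟩ : ∃ g : ℤ, F = 16 * g - 4 ∧ g % 2 = 1 := by
    have hw3 : ((w : ℤ) ^ 3) % 2 = 1 := by
      exact Int.odd_iff.1 (by exact_mod_cast hw.pow)
    obtain ⟨n', hn'⟩ : ∃ n' : ℤ, (N : ℤ) = 16 * n' ∧ n' % 2 = 1 := ⟨(N : ℤ) / 16, by omega, by omega⟩
    obtain ⟨hn1, hn2⟩ := hn'
    rw [hn1] at hz
    generalize (w : ℤ) ^ 3 = W at hz hw3
    obtain ⟨a, ha⟩ : ∃ a, F = 2 * a := by
      rcases Int.emod_two_eq_zero_or_one F with h | h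
      · exact ⟨F / 2, by omega⟩
      · exfalso
        have h1 : (n' * (F + 4) ^ 2) % 2 = 1 := by
          have : (F + 4) % 2 = 1 := by omega
          simp [pow_two, Int.mul_emod, hn2, this]
        have h2 : n' * (F + 4) ^ 2 = 2 * (288 * (W * F * (F + 1))) := by linarith
        omega
    subst ha
    have e1 : n' * (a + 2) ^ 2 = 288 * W * a * (2 * a + 1) := by linarith
    obtain ⟨b, rfl⟩ : ∃ b, a = 2 * b := by
      rcases Int.emod_two_eq_zero_or_one a with h | h
      · exact ⟨a / 2, by omega⟩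
      · exfalso
        have h1 : (n' * (a + 2) ^ 2) % 2 = 1 := by
          have : (a + 2) % 2 = 1 := by omega
          simp [pow_two, Int.mul_emod, hn2, this]
        have h2 : n' * (a + 2) ^ 2 = 2 * (144 * (W * a * (2 * a + 1))) := by linarith
        omega
    have e2 : n' * (b + 1) ^ 2 = 144 * W * b * (4 * b + 1) := by linarith
    obtain ⟨c, hc⟩ : ∃ c, b + 1 = 2 * c := by
      rcases Int.emod_two_eq_zero_or_one (b + 1) with h | h
      · exact ⟨(b + 1) / 2, by omega⟩
      · exfalso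
        have h1 : (n' * (b + 1) ^ 2) % 2 = 1 := by simp [pow_two, Int.mul_emod, hn2, h]
        have h2 : n' * (b + 1) ^ 2 = 2 * (72 * (W * b * (4 * b + 1))) := by linarith
        omega
    rw [hc, show b = 2 * c - 1 by omega] at e2
    have e3 : n' * c ^ 2 = 36 * W * (2 * c - 1) * (8 * c - 3) := by linarith
    obtain ⟨d, rfl⟩ : ∃ d, c = 2 * d := by
      rcases Int.emod_two_eq_zero_or_one c with h | h
      · exact ⟨c / 2, by omega⟩
      · exfalso
        have h1 : (n' * c ^ 2) % 2 = 1 := by simp [pow_two, Int.mul_emod, hn2, h]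
        have h2 : n' * c ^ 2 = 2 * (18 * (W * (2 * c - 1) * (8 * c - 3))) := by linarith
        omega
    have e4 : n' * d ^ 2 = 9 * W * (4 * d - 1) * (16 * d - 3) := by linarith
    refine ⟨d, by omega, ?_⟩
    rcases Int.emod_two_eq_zero_or_one d with h | h
    · exfalso
      have h1 : (n' * d ^ 2) % 2 = 0 := by simp [pow_two, Int.mul_emod, h]
      have h2 : (9 * W * (4 * d - 1) * (16 * d - 3)) % 2 = 1 := by
        have e5 : (4 * d - 1) % 2 = 1 := by omega
        have e6 : (16 * d - 3) % 2 = 1 := by omega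
        simp [Int.mul_emod, hw3, e5, e6]
      omega
    · exact h
  rcases mul_eq_zero.1 hu with hu1 | hu2
  · have hdvd : (F - 8) * (1 + X + F - F - 9) = 72 := by linear_combination hu1
    have hle : |F - 8| ≤ 72 := Int.le_of_dvd (by norm_num) (by rw [abs_dvd]; exact ⟨_, hdvd.symm⟩)
    rw [abs_le] at hle
    have hF2 : F = -52 ∨ F = -20 ∨ F = 12 ∨ F = 44 ∨ F = 76 := by omega
    rcases hF2 with rfl | rfl | rfl | rfl | rfl
    · exfalso; omega
    · exfalso; omega
    · left
      refine ⟨rfl, ?_⟩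
      have : (N : ℤ) = 5616 * (w : ℤ) ^ 3 := by linarith
      exact_mod_cast this
    · right
      refine ⟨by omega, ?_⟩
      have : (N : ℤ) = 7920 * (w : ℤ) ^ 3 := by linarith
      exact_mod_cast this
    · exfalso; omega
  · exfalso
    have hdvd : (F - 2) * (1 + X + F + 2) = -6 := by linear_combination hu2
    have hle : |F - 2| ≤ 6 := Int.le_of_dvd (by norm_num) (by
      rw [abs_dvd]; exact ⟨-(1 + X + F + 2), by linarith⟩)
    rw [abs_le] at hle
    omega

/-- The order and a small character. -/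
theorem exists_char : ∃ (n : ℕ) (χ : IrrCharacter K), (χ : K → ℂ) 1 = n ∧
    ((n = 12 ∧ Nat.card K = 5616 * Nat.card π.ker ^ 3) ∨
      (n = 10 ∧ Nat.card K = 7920 * Nat.card π.ker ^ 3)) ∧
    ∀ a ∈ π.ker, (χ : K → ℂ) (z * (a : K)) = ((n - 8 : ℕ) : ℂ) := by
  classical
  obtain ⟨M, hM⟩ := Blocks.exists_isPModular 2 Nat.prime_two
  choose m hm _ hn using fun i => Char.IsGen.exists_mult (ind_gen (π := π) i)
  choose d hd0 hd using fun ψ : IrrCharacter K => Char.IsIrr.degree ψ.2
  set o : IrrCharacter K := ⟨fun _ => 1, Char.isIrrCharacter_one⟩ with ho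
  have hmo : ∀ i, m i o = triv i := fun i => by
    exact_mod_cast (hm i o).symm.trans (H.ind_one i)
  have hgram : ∀ i j, ∑ ψ, m i ψ * m j ψ = gram i j := fun i j => by
    have h := H.ind_inner i j
    have hexp : ind π j = ∑ ψ : IrrCharacter K, (m j ψ : ℂ) • (ψ : K → ℂ) := by
      refine (Char.classFun_expansion (Char.IsGen.isClassFunction (ind_gen j))).trans
        (Finset.sum_congr rfl fun ψ _ => by rw [hm])
    have h2 : classInner (ind π i) (ind π j) = ((∑ ψ, m i ψ * m j ψ : ℤ) : ℂ) := by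
      have key : classInner (ind π i) (ind π j) =
          ∑ ψ : IrrCharacter K, conj (m j ψ : ℂ) * classInner (ind π i) (ψ : K → ℂ) := by
        conv_lhs => rw [hexp]
        simp only [classInner, Finset.sum_apply, Pi.smul_apply, smul_eq_mul, map_sum, map_mul,
          Finset.mul_sum]
        rw [Finset.sum_comm]
        exact Finset.sum_congr rfl fun ψ _ => Finset.sum_congr rfl fun g _ => by ring
      rw [key, Int.cast_sum]
      refine Finset.sum_congr rfl fun ψ _ => ?_
      rw [hm, map_intCast]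
      push_cast
      ring
    exact_mod_cast h2.symm.trans h
  have hdeg : ∀ i, ∑ ψ, m i ψ * (d ψ : ℤ) = 0 := fun i => by
    have h := Invol.apply_eq_sum (Char.IsGen.isClassFunction (ind_gen (π := π) i)) 1
    simp only [hm, hd, ind_at_one] at h
    exact_mod_cast h
  have hval : ∀ ψ : IrrCharacter K, ∀ i, m i ψ ≠ 0 →
      (∀ a ∈ π.ker, (ψ : K → ℂ) (z * (a : K)) = (ψ : K → ℂ) z) ∧
      (ψ : K → ℂ) z = (Comb.val (m 0) (m 1) (m 2) (m 3) (m 4) ψ : ℂ) := fun ψ i hi => by
    have hB : ψ ∈ principalBlock M K := H.mem_principal hM (i := i) (by rw [hm]; exact_mod_cast hi)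
    have hc : ∀ a ∈ π.ker, (ψ : K → ℂ) (z * (a : K)) = (ψ : K → ℂ) z := fun a ha => H.constant_on hM hB ha
    refine ⟨hc, ?_⟩
    have h := congrArg conj (H.value_eq ψ hc)
    simp only [hm, Complex.conj_conj, map_sum, map_mul, map_intCast] at h
    rw [← h]
    simp [Fin.sum_univ_five, coeff, Comb.val]
  have hexpand : ∀ ψ : IrrCharacter K, (ψ : K → ℂ) z ^ 2 / (ψ : K → ℂ) 1 =
      (Nat.card K : ℂ)⁻¹ * ∑ a, (ψ : K → ℂ) (a * z * a⁻¹ * z) := fun ψ => by
    have h := CharArith.classMult ψ.2 z z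
    have h1 := Char.IsIrr.one_ne_zero ψ.2
    have hG0 : (Nat.card K : ℂ) ≠ 0 := Char.card_ne_zero
    field_simp
    linear_combination -h
  have hkey : ∀ i, (Nat.card K : ℚ) * ∑ ψ, (m i ψ : ℚ) *
      (Comb.val (m 0) (m 1) (m 2) (m 3) (m 4) ψ : ℚ) ^ 2 / ((d ψ : ℤ) : ℚ) =
        48 * (48 * pairs i) * (Nat.card π.ker : ℚ) ^ 3 := fun i => by
    have h : (Nat.card K : ℂ) * ∑ ψ : IrrCharacter K, (m i ψ : ℂ) *
        ((ψ : K → ℂ) z ^ 2 / (ψ : K → ℂ) 1) = 48 * (48 * pairs i) * (Nat.card π.ker : ℂ) ^ 3 := by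
      rw [← H.sum_pairs i]
      have hG0 : (Nat.card K : ℂ) ≠ 0 := Char.card_ne_zero
      simp only [hexpand, Finset.mul_sum]
      rw [Finset.sum_comm]
      refine Finset.sum_congr rfl fun a _ => ?_
      rw [← Invol.apply_eq_sum (Char.IsGen.isClassFunction (ind_gen i)) (a * z * a⁻¹ * z)]
      refine Finset.sum_congr rfl fun ψ _ => ?_
      rw [hm]
      field_simp
    have h' : (Nat.card K : ℂ) * ∑ ψ : IrrCharacter K, (m i ψ : ℂ) *
        ((Comb.val (m 0) (m 1) (m 2) (m 3) (m 4) ψ : ℂ) ^ 2 / (d ψ : ℂ)) =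
          48 * (48 * pairs i) * (Nat.card π.ker : ℂ) ^ 3 := by
      rw [← h]
      refine congrArg _ (Finset.sum_congr rfl fun ψ _ => ?_)
      by_cases h0 : m i ψ = 0
      · simp [h0]
      · rw [(hval ψ i h0).2, hd]
    simp only [mul_div_assoc]
    push_cast
    exact_mod_cast h'
  have hsys : Comb.Sys o (fun ψ => (d ψ : ℤ)) (m 0) (m 1) (m 2) (m 3) (m 4) := by
    have hg := fun i j => hgram i j
    have hsq : ∀ i, ∑ ψ, m i ψ ^ 2 = gram i i := fun i => by
      rw [← hgram i i]; simp only [pow_two]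
    refine
      { pos := fun ψ => by exact_mod_cast hd0 ψ
        one := ?_
        Ao := hmo 0, Bo := hmo 1, Po := hmo 2, Qo := hmo 3, Ro := hmo 4
        AA := hsq 0, BB := hsq 1, PP := hsq 2, QQ := hsq 3, RR := hsq 4
        AB := hg 0 1, PA := hg 2 0, PB := hg 2 1, QA := hg 3 0, QB := hg 3 1
        RA := hg 4 0, RB := hg 4 1, PQ := hg 2 3, PR := hg 4 2, QR := hg 4 3
        dA := hdeg 0, dB := hdeg 1, dP := hdeg 2, dQ := hdeg 3, dR := hdeg 4 }
    have h := hd o
    simp only [ho] at h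
    exact_mod_cast h.symm
  obtain ⟨X, F, hF, hF1, hX, hXF, eP, eR, ⟨f, hPf, hdf, hvf⟩, ⟨α, hRα, hdα, hvα⟩⟩ := hsys.extract_chars
  have kP := hkey 2
  have kR := hkey 4
  rw [eP] at kP
  rw [eR] at kR
  rw [show pairs 2 = 4 from rfl] at kP
  rw [show pairs 4 = 6 from rfl] at kR
  rcases solveW (w := Nat.card π.ker) H.hodd hF hF1 hX hXF H.card_mod (kP.trans (by norm_num))
    (kR.trans (by norm_num)) with ⟨rfl, hN⟩ | ⟨rfl, hN⟩
  · obtain ⟨hc, hv'⟩ := hval f 2 hPf
    refine ⟨12, f, ?_, Or.inl ⟨rfl, hN⟩, fun a ha => ?_⟩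
    · rw [hd, show d f = 12 by omega]
    · have : Comb.val (m 0) (m 1) (m 2) (m 3) (m 4) f = 4 := by
        rw [← hdf] at hvf; omega
      rw [hc a ha, hv', this]; norm_num
  · obtain ⟨hc, hv'⟩ := hval α 4 hRα
    refine ⟨10, α, ?_, Or.inr ⟨rfl, hN⟩, fun a ha => ?_⟩
    · rw [hd, show d α = 10 by omega]
    · have : Comb.val (m 0) (m 1) (m 2) (m 3) (m 4) α = 2 := by
        rw [← hdα] at hvα; omega
      rw [hc a ha, hv', this]; norm_num

end Hyp

end Cfsg.Agent.SubdegThree.SDEnd
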