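import Cfsg.Agent.SubdegThree.SDEnd.Setup
import Cfsg.Agent.Invol.Count
import Cfsg.Agent.Invol.SectionInduce

/-!
# The semidihedral endgame: five induced virtual characters
-/

set_option autoImplicit false
open Cfsg

namespace Cfsg.Agent.SubdegThree.SDEnd

open Cfsg.Agent.InvolGL23
open scoped ComplexConjugate

universe u

local notation "GL23" => Matrix.GeneralLinearGroup (Fin 2) (ZMod 3)

theorem vf_neg : ∀ i : Fin 5, ∀ q ∈ invols, vf i (qmul qneg q) = 0 ∧ vf i (qmul q qneg) = 0 := by
  decide +kernel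

variable {K : Type u} [Group K] {z v h : K}
  {π : ↥(Subgroup.centralizer ({z} : Set K)) →* GL23}

/-- The virtual character on the centraliser. -/
noncomputable def phi (π : ↥(Subgroup.centralizer ({z} : Set K)) →* GL23) (i : Fin 5)
    (c : Subgroup.centralizer ({z} : Set K)) : ℂ := theta i (π c)

theorem phi_gen (i : Fin 5) :
    IsGeneralizedCharacter (Subgroup.centralizer ({z} : Set K)) (phi π i) :=
  Char.isGeneralized_comp π (isGeneralized_theta i)

variable [Fintype K]

/-- The induced virtual character. -/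
noncomputable def ind (π : ↥(Subgroup.centralizer ({z} : Set K)) →* GL23) (i : Fin 5) : K → ℂ :=
  indFun (Subgroup.centralizer ({z} : Set K)) (phi π i)

theorem ind_gen (i : Fin 5) : IsGeneralizedCharacter K (ind π i) :=
  Char.isGeneralized_indFun _ (phi_gen i)

theorem ind_at_one (i : Fin 5) : ind π i 1 = 0 := by
  rw [ind, Char.indFun_apply_one, phi, theta, map_one, toQ_one, vf_one, map_zero, mul_zero]

namespace Hyp

variable (H : Hyp z v h π)
include H

/-- The fibres of the map onto the model have the size of the kernel. -/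
theorem card_fibre [Fintype (Subgroup.centralizer ({z} : Set K))] {q : Q} (hq : q ∈ els) :
    (Finset.univ.filter fun c : Subgroup.centralizer ({z} : Set K) => toQ (π c) = q).card = Nat.card π.ker := by
  classical
  obtain ⟨g, rfl⟩ := toQ_surj hq
  obtain ⟨k, rfl⟩ := H.hsurj g
  rw [Nat.card_eq_fintype_card, ← Finset.card_univ]
  symm
  refine Finset.card_bij (fun (a : π.ker) _ => k * (a : Subgroup.centralizer ({z} : Set K))) (fun a _ => ?_) (fun a _ b _ e => ?_) (fun c hc => ?_)
  · refine Finset.mem_filter.2 ⟨Finset.mem_univ _, ?_⟩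
    rw [map_mul, MonoidHom.mem_ker.1 a.2, mul_one]
  · exact Subtype.ext (mul_left_cancel e)
  · refine ⟨⟨k⁻¹ * c, ?_⟩, Finset.mem_univ _, mul_inv_cancel_left _ _⟩
    rw [MonoidHom.mem_ker, map_mul, map_inv, toQ_injective (Finset.mem_filter.1 hc).2, inv_mul_cancel]

theorem sum_model [Fintype (Subgroup.centralizer ({z} : Set K))] (F : Q → ℂ) :
    ∑ c : Subgroup.centralizer ({z} : Set K), F (toQ (π c)) = (Nat.card π.ker : ℂ) * ∑ q ∈ els, F q := by
  classical
  rw [← Finset.sum_fiberwise_of_maps_to (t := els) (g := fun c => toQ (π c)) (fun c _ => toQ_mem _),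
    Finset.mul_sum]
  refine Finset.sum_congr rfl fun q hq => ?_
  rw [Finset.sum_congr rfl fun c hc => by rw [(Finset.mem_filter.1 hc).2], Finset.sum_const,
    H.card_fibre hq, nsmul_eq_mul]

/-- A nonzero value forces a power to be the central involution. -/
theorem phi_support {i : Fin 5} {c : Subgroup.centralizer ({z} : Set K)}
    (h : phi π i c ≠ 0) : ∃ j : ℕ, (c : K) ^ j = z := by
  obtain ⟨j, -, hj⟩ := vf_support i _ (toQ_mem (π c)) fun h0 => h (by rw [phi, theta, h0, map_zero])
  refine ⟨j * Nat.card π.ker, ?_⟩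
  have hk : c ^ j * ⟨z, z_mem⟩ ∈ π.ker := by
    rw [MonoidHom.mem_ker, map_mul, toQ_injective ((by rw [map_pow, toQ_pow, hj] : toQ (π (c ^ j)) = qneg).trans
      H.pi_z.symm), ← map_mul, show (⟨z, z_mem⟩ : Subgroup.centralizer ({z} : Set K)) * ⟨z, z_mem⟩ = 1
        from Subtype.ext H.z_sq, map_one]
  have h1 : c ^ (j * Nat.card π.ker) = ⟨z, z_mem⟩ := by
    have h2 := H.pow_card hk
    rw [Commute.mul_pow (show Commute (c ^ j) ⟨z, z_mem⟩ from (cz_central _).symm), ← pow_mul] at h2
    obtain ⟨m, hm⟩ := H.hodd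
    have hz2 : (⟨z, z_mem⟩ : Subgroup.centralizer ({z} : Set K)) ^ Nat.card π.ker = ⟨z, z_mem⟩ := by
      rw [hm, pow_succ, pow_mul, sq, show (⟨z, z_mem⟩ : Subgroup.centralizer ({z} : Set K)) * ⟨z, z_mem⟩ = 1
        from Subtype.ext H.z_sq, one_pow, one_mul]
    rw [hz2] at h2
    rw [eq_inv_of_mul_eq_one_left h2]
    exact Subtype.ext H.z_inv
  simpa using congrArg Subtype.val h1

omit [Fintype K] in
/-- Two involutions with product among the special elements centralise `z`. -/
theorem mem_of_product {a b : K} (ha : a * a = 1) (hb : b * b = 1) {j : ℕ}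
    (hj : (a * b) ^ j = z) [Finite K] : a ∈ Subgroup.centralizer ({z} : Set K) := by
  rw [Subgroup.mem_centralizer_singleton_iff]
  have h1 : a * (a * b) * a⁻¹ = (a * b)⁻¹ := by
    rw [mul_inv_rev, inv_eq_of_mul_eq_one_right ha, inv_eq_of_mul_eq_one_right hb, ← mul_assoc a a,
      ha, one_mul]
  have h2 : a * z * a⁻¹ = z⁻¹ := by rw [← hj, ← conj_pow, h1, inv_pow]
  rw [H.z_inv] at h2
  exact mul_inv_eq_iff_eq_mul.1 h2

omit [Fintype K] in
/-- The special elements are fused inside the centraliser only. -/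
theorem special_ti [Finite K] {x y : K} {i j : ℕ} (hi : x ^ i = z)
    (hj : (y⁻¹ * x * y) ^ j = z) : y ∈ Subgroup.centralizer ({z} : Set K) := by
  rw [Subgroup.mem_centralizer_singleton_iff]
  have h1 : y⁻¹ * z * y = z := by
    refine Invol.eq_of_isCyclic_of_orderOf_two (S := Subgroup.zpowers (y⁻¹ * x * y))
      inferInstance ?_ H.hz ?_ ?_
    · rw [show y⁻¹ * z * y = MulAut.conj y⁻¹ z by simp, MulEquiv.orderOf_eq, H.hz]
    · refine ⟨(i : ℤ), ?_⟩
      show (y⁻¹ * x * y) ^ (i : ℤ) = _
      rw [zpow_natCast]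
      calc (y⁻¹ * x * y) ^ i = (y⁻¹ * x * (y⁻¹)⁻¹) ^ i := by rw [inv_inv]
        _ = y⁻¹ * x ^ i * (y⁻¹)⁻¹ := conj_pow
        _ = y⁻¹ * z * y := by rw [hi, inv_inv]
    · rw [← hj]; exact Subgroup.pow_mem _ (Subgroup.mem_zpowers _) _
  calc y * z = y * (y⁻¹ * z * y) := by rw [h1]
    _ = z * y := by group

/-- On special elements the induced character agrees. -/
theorem ind_apply (i : Fin 5) (c : Subgroup.centralizer ({z} : Set K)) {j : ℕ}
    (hj : (c : K) ^ j = z) : ind π i c = phi π i c := by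
  classical
  have key : ∀ y : K, extendByZero (Subgroup.centralizer ({z} : Set K)) (phi π i) (y⁻¹ * c * y) =
      if y ∈ Subgroup.centralizer ({z} : Set K) then phi π i c else 0 := by
    intro y
    split_ifs with hy
    · rw [Char.extendByZero_of_mem _ _ (mul_mem (mul_mem (inv_mem hy) c.2) hy)]
      refine Eq.trans (congrArg (phi π i) (Subtype.ext ?_))
        (Char.IsGen.isClassFunction (phi_gen i) c ⟨y⁻¹, inv_mem hy⟩)
      simp
    · by_contra hne
      have hm : y⁻¹ * c * y ∈ Subgroup.centralizer ({z} : Set K) := by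
        by_contra hm; exact hne (Char.extendByZero_of_not_mem _ _ hm)
      rw [Char.extendByZero_of_mem _ _ hm] at hne
      obtain ⟨k, hk⟩ := H.phi_support hne
      exact hy (H.special_ti hj hk)
  rw [ind, Char.indFun_apply, Finset.sum_congr rfl fun y _ => key y, Finset.sum_ite,
    Finset.sum_const, Finset.sum_const_zero, add_zero, nsmul_eq_mul,
    ← Fintype.card_subtype, ← Nat.card_eq_fintype_card]
  exact inv_mul_cancel_left₀ (Nat.cast_ne_zero.2 Nat.card_pos.ne') _

/-- Inner products of functions on the centraliser given in the model. -/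
theorem inner_model (f g : Q → Z2) [Fintype (Subgroup.centralizer ({z} : Set K))] :
    classInner (fun c : Subgroup.centralizer ({z} : Set K) => toC (f (toQ (π c))))
      (fun c => toC (g (toQ (π c)))) = (48 : ℂ)⁻¹ * toC (∑ q ∈ els, f q * star (g q)) := by
  classical
  have hw : (Nat.card π.ker : ℂ) ≠ 0 := Nat.cast_ne_zero.2 Nat.card_pos.ne'
  rw [classInner, H.card_C, map_sum,
    show ∑ c : Subgroup.centralizer ({z} : Set K), toC (f (toQ (π c))) * conj (toC (g (toQ (π c)))) =
      ∑ c : Subgroup.centralizer ({z} : Set K), (fun q => toC (f q * star (g q))) (toQ (π c)) from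
        Finset.sum_congr rfl fun c _ => by simp [toC_star], H.sum_model fun q => toC (f q * star (g q))]
  push_cast
  field_simp

theorem ind_inner (i j : Fin 5) : classInner (ind π i) (ind π j) = (gram i j : ℂ) := by
  classical
  rw [ind, Char.classInner_indFun_left _ _ (Char.IsGen.isClassFunction (ind_gen j))]
  have h : classInner (phi π i) (fun c => ind π j (c : K)) = classInner (phi π i) (phi π j) := by
    unfold classInner
    congr 1
    refine Finset.sum_congr rfl fun c _ => ?_
    by_cases h0 : phi π i c = 0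
    · rw [h0, zero_mul, zero_mul]
    · obtain ⟨k, hk⟩ := H.phi_support h0
      beta_reduce
      rw [H.ind_apply j c hk]
  rw [h]
  refine (H.inner_model (vf i) (vf j)).trans ?_
  rw [vf_gram, map_intCast]
  push_cast
  ring

theorem ind_one (i : Fin 5) : classInner (ind π i) (fun _ => (1 : ℂ)) = (triv i : ℂ) := by
  classical
  rw [ind, Char.classInner_indFun_left _ _ (fun _ _ => rfl)]
  have h := H.inner_model (vf i) (fun _ => 1)
  simp only [map_one, star_one, mul_one] at h
  refine h.trans ?_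
  rw [vf_triv, map_intCast]
  push_cast
  ring

omit [Fintype K] in
theorem sq_eq_one_of_refl [Finite K] {c : Subgroup.centralizer ({z} : Set K)} (hc : toQ (π c) ∈ refl) :
    c * c = 1 := by
  have hk : c * c ∈ π.ker := by
    rw [MonoidHom.mem_ker, map_mul]
    exact toQ_injective (by
      rw [toQ_mul, toQ_one]
      exact (Finset.mem_filter.1 (Finset.mem_filter.1 hc).1).2.1)
  refine H.eq_one hk ?_
  have h := H.refl_inverts hc hk
  rw [show c * (c * c) * c⁻¹ = c * c by group] at h
  nth_rewrite 2 [h]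
  exact mul_inv_cancel _

/-- Summing over the involutions of the centraliser. -/
theorem sum_invols [DecidableEq K] [Fintype (Subgroup.centralizer ({z} : Set K))] (F : Q → ℂ)
    (h0 : F qneg = 0) :
    ∑ c ∈ (Finset.univ.filter fun c : Subgroup.centralizer ({z} : Set K) => c * c = 1 ∧ c ≠ 1),
      F (toQ (π c)) = (Nat.card π.ker : ℂ) * ∑ q ∈ invols, F q := by
  classical
  have hmap : ∀ c ∈ (Finset.univ.filter fun c : Subgroup.centralizer ({z} : Set K) => c * c = 1 ∧ c ≠ 1),
      toQ (π c) ∈ invols := by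
    intro c hc
    obtain ⟨-, h2, h1⟩ := Finset.mem_filter.1 hc
    refine Finset.mem_filter.2 ⟨toQ_mem _, by rw [← toQ_mul, ← map_mul, h2, map_one, toQ_one], fun e => h1 ?_⟩
    exact H.eq_one (MonoidHom.mem_ker.2 (toQ_injective (e.trans toQ_one.symm))) h2
  rw [← Finset.sum_fiberwise_of_maps_to (t := invols) hmap, Finset.mul_sum]
  refine Finset.sum_congr rfl fun q hq => ?_
  rw [Finset.sum_congr rfl fun c hc => by rw [(Finset.mem_filter.1 hc).2], Finset.sum_const, nsmul_eq_mul]
  by_cases hn : q = qneg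
  · rw [hn, h0, mul_zero, mul_zero]
  · congr 1
    rw [← H.card_fibre (Finset.mem_filter.1 hq).1, Finset.filter_filter]
    congr 2
    refine Finset.filter_congr fun c _ => ⟨fun h => h.2, fun h => ⟨⟨?_, fun e => ?_⟩, h⟩⟩
    · exact H.sq_eq_one_of_refl (Finset.mem_filter.2 ⟨h ▸ hq, h ▸ hn⟩)
    · rw [e, map_one, toQ_one] at h
      exact (Finset.mem_filter.1 hq).2.2 h.symm

/-- The pairs of involutions. -/
theorem sum_pairs (i : Fin 5) :
    ∑ a : K, ind π i (a * z * a⁻¹ * z) = (48 : ℂ) * (48 * pairs i) * (Nat.card π.ker : ℂ) ^ 3 := by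
  classical
  set E := extendByZero (Subgroup.centralizer ({z} : Set K)) (phi π i) with hE
  set out := Finset.univ.filter fun g : K => g ∈ Subgroup.centralizer ({z} : Set K) ∧ g * g = 1 ∧ g ≠ 1
    with hout
  have hinv : ∀ a : K, a * z * a⁻¹ * (a * z * a⁻¹) = 1 := fun a => by
    rw [show a * z * a⁻¹ * (a * z * a⁻¹) = a * (z * z) * a⁻¹ by group, H.z_sq, mul_one, mul_inv_cancel]
  have hfib : ∀ F : K → ℂ, (∀ a, F (a * z * a⁻¹) ≠ 0 → a * z * a⁻¹ ∈ Subgroup.centralizer ({z} : Set K)) →
      ∑ b : K, F (b * z * b⁻¹) = (Nat.card (Subgroup.centralizer ({z} : Set K)) : ℂ) * ∑ u ∈ out, F u := by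
    intro F hF
    rw [← Finset.sum_fiberwise Finset.univ (fun b : K => b * z * b⁻¹) _, Finset.mul_sum]
    rw [← Finset.sum_subset (Finset.subset_univ out) fun u _ hu => ?_]
    · refine Finset.sum_congr rfl fun u hu => ?_
      rw [Finset.sum_congr rfl fun b hb => by rw [(Finset.mem_filter.1 hb).2],
        Finset.sum_const, nsmul_eq_mul]
      congr 1
      obtain ⟨-, hu1, hu2, hu3⟩ := Finset.mem_filter.1 hu
      obtain ⟨k, hk'⟩ := H.fusion (u := ⟨u, hu1⟩) (Subtype.ext hu2) (fun e => hu3 (congrArg Subtype.val e))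
      have hk : k * z * k⁻¹ = u := hk'
      rw [Nat.cast_inj, Nat.card_eq_fintype_card, Fintype.card_subtype]
      refine Finset.card_nbij' (fun b => k⁻¹ * b) (fun b => k * b) ?_ ?_
        (fun b _ => by simp) (fun b _ => by simp)
      · intro b hb
        simp only [Finset.mem_univ, true_and, Finset.coe_filter, Set.mem_ofPred_eq] at hb ⊢
        rw [Subgroup.mem_centralizer_singleton_iff]
        rw [← hk] at hb
        calc k⁻¹ * b * z = k⁻¹ * (b * z * b⁻¹) * b := by group
          _ = z * (k⁻¹ * b) := by rw [hb]; group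
      · intro b hb
        simp only [Finset.mem_univ, true_and, Finset.coe_filter, Set.mem_ofPred_eq] at hb ⊢
        rw [Subgroup.mem_centralizer_singleton_iff] at hb
        rw [← hk]
        calc k * b * z * (k * b)⁻¹ = k * (b * z) * b⁻¹ * k⁻¹ := by group
          _ = k * z * k⁻¹ := by rw [hb]; group
    · refine Finset.sum_eq_zero fun b hb => ?_
      by_contra hne0
      have h9 := hF b hne0
      rw [(Finset.mem_filter.1 hb).2] at h9
      refine hu (Finset.mem_filter.2 ⟨Finset.mem_univ _, h9, ?_, ?_⟩) <;>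
        rw [← (Finset.mem_filter.1 hb).2]
      · exact hinv b
      · intro h1
        exact H.z_ne (conj_eq_one_iff.1 h1)
  have hmem : ∀ a y : K, E (a * z * a⁻¹ * (y * z * y⁻¹)) ≠ 0 →
      a * z * a⁻¹ ∈ Subgroup.centralizer ({z} : Set K) := by
    intro a y h
    have hprod : a * z * a⁻¹ * (y * z * y⁻¹) ∈ Subgroup.centralizer ({z} : Set K) := by
      by_contra hh
      exact h (Char.extendByZero_of_not_mem _ _ hh)
    rw [hE, Char.extendByZero_of_mem _ _ hprod] at h
    obtain ⟨j, hj⟩ := H.phi_support h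
    exact H.mem_of_product (hinv a) (hinv y) hj
  have e1 : ∀ g : K, ind π i g = (Nat.card (Subgroup.centralizer ({z} : Set K)) : ℂ)⁻¹ *
      ∑ y : K, E (y⁻¹ * g * y) := fun g => by
    rw [ind, Char.indFun_apply]
  simp only [e1, ← Finset.mul_sum]
  rw [Finset.sum_comm]
  have e2 : ∀ y : K, ∑ a : K, E (y⁻¹ * (a * z * a⁻¹ * z) * y) =
      ∑ b : K, E (b * z * b⁻¹ * (y⁻¹ * z * y⁻¹⁻¹)) := fun y => by
    refine Fintype.sum_equiv (Equiv.mulLeft y⁻¹) _ _ fun a => ?_
    congr 1
    simp only [Equiv.coe_mulLeft]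
    group
  rw [Finset.sum_congr rfl fun y _ => e2 y, Finset.sum_comm]
  have e3 : ∀ u : K, ∑ y : K, E (u * (y⁻¹ * z * y⁻¹⁻¹)) = ∑ y : K, E (u * (y * z * y⁻¹)) :=
    fun u => Fintype.sum_equiv (Equiv.inv K) _ _ fun y => by simp
  simp only [e3]
  rw [hfib (fun u => ∑ y : K, E (u * (y * z * y⁻¹))) fun a ha => ?_]
  · have e4 : ∀ u ∈ out, ∑ y : K, E (u * (y * z * y⁻¹)) =
        (Nat.card (Subgroup.centralizer ({z} : Set K)) : ℂ) * ∑ u' ∈ out, E (u * u') := by
      intro u hu
      obtain ⟨-, hu1, -⟩ := Finset.mem_filter.1 hu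
      refine hfib (fun u' => E (u * u')) fun a ha => ?_
      have : u * (a * z * a⁻¹) ∈ Subgroup.centralizer ({z} : Set K) := by
        by_contra hh
        exact ha (Char.extendByZero_of_not_mem _ _ hh)
      exact (Subgroup.mul_mem_cancel_left _ hu1).1 this
    rw [Finset.sum_congr rfl e4, ← Finset.mul_sum, ← mul_assoc, ← mul_assoc,
      inv_mul_cancel₀ (Nat.cast_ne_zero.2 Nat.card_pos.ne'), one_mul]
    set Out := Finset.univ.filter fun c : Subgroup.centralizer ({z} : Set K) => c * c = 1 ∧ c ≠ 1 with hOut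
    have hout' : out = Out.map ⟨Subtype.val, Subtype.val_injective⟩ := by
      ext g
      simp only [hout, hOut, Finset.mem_filter, Finset.mem_univ, true_and, Finset.mem_map,
        Function.Embedding.coeFn_mk]
      constructor
      · rintro ⟨hg, h2, h1⟩
        exact ⟨⟨g, hg⟩, ⟨Subtype.ext h2, fun e => h1 (congrArg Subtype.val e)⟩, rfl⟩
      · rintro ⟨c, ⟨h2, h1⟩, rfl⟩
        exact ⟨c.2, congrArg Subtype.val h2, fun e => h1 (Subtype.ext e)⟩
    have hEc : ∀ c d : Subgroup.centralizer ({z} : Set K),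
        E ((c : K) * (d : K)) = toC (vf i (qmul (toQ (π c)) (toQ (π d)))) := fun c d => by
      rw [hE, Char.extendByZero_of_mem _ _ (mul_mem c.2 d.2)]
      show toC (vf i (toQ (π (c * d)))) = _
      rw [map_mul, toQ_mul]
    rw [hout', Finset.sum_map]
    simp only [Finset.sum_map, Function.Embedding.coeFn_mk, hEc]
    set S : Q → ℂ := fun p => ∑ q ∈ invols, toC (vf i (qmul p q)) with hS
    have hinner : ∀ c ∈ Out, ∑ d ∈ Out, toC (vf i (qmul (toQ (π c)) (toQ (π d)))) =
        (Nat.card π.ker : ℂ) * S (toQ (π c)) := by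
      intro c hc
      refine H.sum_invols (fun q => toC (vf i (qmul (toQ (π c)) q))) ?_
      have hci : toQ (π c) ∈ invols := by
        obtain ⟨-, h2, h1⟩ := Finset.mem_filter.1 hc
        exact Finset.mem_filter.2 ⟨toQ_mem _, by rw [← toQ_mul, ← map_mul, h2, map_one, toQ_one],
          fun e => h1 (H.eq_one (MonoidHom.mem_ker.2 (toQ_injective (e.trans toQ_one.symm))) h2)⟩
      show toC (vf i (qmul (toQ (π c)) qneg)) = 0
      rw [(vf_neg i _ hci).2, map_zero]
    rw [Finset.sum_congr rfl hinner, ← Finset.mul_sum, H.sum_invols S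
      (Finset.sum_eq_zero fun q hq => by rw [(vf_neg i q hq).1, map_zero]), H.card_C]
    simp only [hS, ← map_sum]
    rw [vf_pairs, map_intCast]
    push_cast
    ring
  · obtain ⟨y, -, hy⟩ := Finset.exists_ne_zero_of_sum_ne_zero ha
    exact hmem a y hy

end Hyp

end Cfsg.Agent.SubdegThree.SDEnd
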