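import Cfsg.Agent.InvolGL23.Model

/-!
# Facts about the model of GL(2,3)
-/

set_option autoImplicit false

namespace Cfsg.Agent.SubdegThree.SDEnd

open Cfsg.Agent.InvolGL23

local notation "GL23" => Matrix.GeneralLinearGroup (Fin 2) (ZMod 3)

/-- The noncentral involutions. -/
def refl : Finset Q := invols.filter fun q => q ≠ qneg

theorem refl_det : ∀ q ∈ refl, qdet q = 2 := by decide +kernel

theorem det_cases : ∀ q ∈ els, qdet q = 1 ∨ qdet q = 2 := by decide +kernel

/-- Elements of determinant one are products of two reflections. -/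
theorem det_one_split : ∀ q ∈ els, qdet q = 1 → ∃ a ∈ refl, qmul a q ∈ refl := by decide +kernel

theorem qdet_mul : ∀ a b : Q, qdet (qmul a b) = qdet a * qdet b := fun a b => by
  simp only [qdet, qmul]; ring

theorem qdet_neg : qdet qneg = 1 := by decide

theorem refl_conj : ∀ q ∈ refl, ∀ r ∈ refl, ∃ c ∈ els, qmul c r = qmul q c := by decide +kernel

set_option synthInstance.maxSize 4000 in
/-- An element with a power minus one: minus an element of order dividing three, or an element of
order dividing eight with centraliser a two-group. -/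
theorem special_cases : ∀ q ∈ els, ∀ j ∈ Finset.range 8, qpow q j = qneg →
    qpow (qmul qneg q) 3 = qone ∨ (qpow q 8 = qone ∧ q ≠ qneg ∧
      ∀ r ∈ els, qmul q r = qmul r q → qpow r 8 = qone) := by decide +kernel

theorem quat_det : ∀ q ∈ quat, qdet q = 1 := by decide +kernel

theorem quat_pow : ∀ q ∈ quat, q ≠ qone → qpow q 2 = qneg ∨ q = qneg := by decide +kernel

theorem quat_diff : ∀ a ∈ quat, ∀ b ∈ quat, a ≠ b →
    ∃ c ∈ quat, c ≠ qone ∧ qmul a c = b := by decide +kernel

theorem quat_pow_four : ∀ q ∈ quat, qpow q 4 = qone := by decide +kernel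

/-- A generating pair of the quaternion group, and an element moving the Klein pair. -/
theorem quat_pair : qmul (0, 1, 2, 0) (1, 1, 1, 2) = qmul (qmul qneg (1, 1, 1, 2)) (0, 1, 2, 0) ∧
    ((0, 1, 2, 0) : Q) ∈ quat ∧ ((1, 1, 1, 2) : Q) ∈ quat := by decide +kernel

/-- An element of determinant one carrying a noncentral involution to its negative. -/
theorem refl_neg : ∀ q ∈ refl, ∃ g ∈ els, qdet g = 1 ∧ qmul g q = qmul (qmul qneg q) g := by
  decide +kernel

set_option synthInstance.maxSize 4000 in
/-- An element of determinant one of odd order which is not trivial has a conjugate not commuting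
with it. -/
theorem three_not_normal : ∀ q ∈ els, qpow q 3 = qone → q ≠ qone →
    ∃ g ∈ els, qdet g = 1 ∧ ∃ q' ∈ els, qmul g q = qmul q' g ∧ qpow (qmul q q') 3 ≠ qone := by
  decide +kernel

/-- Elements of odd order dividing forty eight. -/
theorem pow_three_of_pow_odd : ∀ q ∈ els, ∀ j ∈ Finset.range 48, j % 2 = 1 → qpow q j = qone →
    qpow q 3 = qone := by decide +kernel

theorem qpow_three_det : ∀ q ∈ els, qpow q 3 = qone → qdet q = 1 := by decide +kernel

theorem invol_det_one : ∀ q ∈ els, qmul q q = qone → q ≠ qone → qdet q = 1 → q = qneg := by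
  decide +kernel

/-- The image of a matrix. -/
theorem toQ_eq_iff {g h : GL23} : toQ g = toQ h ↔ g = h := toQ_injective.eq_iff

end Cfsg.Agent.SubdegThree.SDEnd
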