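import Mathlib

/-!
# Averaging projections of an endomorphism of finite order
-/

set_option autoImplicit false

namespace Cfsg.Agent.SubdegThree.SDEnd

open Finset Module

variable {V : Type*} [AddCommGroup V] [Module ℂ V]

/-- The projection onto the eigenspace of `ε` of an endomorphism with `A ^ k = 1`. -/
noncomputable def proj (k : ℕ) (A : Module.End ℂ V) (ε : ℂ) : Module.End ℂ V :=
  (k : ℂ)⁻¹ • ∑ j ∈ range k, ε⁻¹ ^ j • A ^ j

theorem commute_proj {k : ℕ} {A X : Module.End ℂ V} (h : Commute X A) (ε : ℂ) :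
    Commute X (proj k A ε) :=
  ((Commute.sum_right _ _ _ fun j _ => (h.pow_right j).smul_right _).smul_right _)

theorem mul_proj {k : ℕ} {A : Module.End ℂ V} {ε : ℂ} (hA : A ^ k = 1) (hε : ε ^ k = 1) (hk : k ≠ 0) :
    A * proj k A ε = ε • proj k A ε := by
  have hε0 : ε ≠ 0 := fun e => by rw [e, zero_pow hk] at hε; exact zero_ne_one hε
  rw [proj, mul_smul_comm, smul_comm, Finset.mul_sum]
  congr 1
  have hstep : ∀ j ∈ range k, A * (ε⁻¹ ^ j • A ^ j) = ε • (ε⁻¹ ^ (j + 1) • A ^ (j + 1)) := fun j _ => by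
    rw [mul_smul_comm, ← pow_succ', smul_smul, pow_succ' ε⁻¹ j, ← mul_assoc, mul_inv_cancel₀ hε0, one_mul]
  rw [Finset.sum_congr rfl hstep, ← Finset.smul_sum]
  congr 1
  have h1 := Finset.sum_range_succ' (fun j => ε⁻¹ ^ j • A ^ j) k
  rw [Finset.sum_range_succ, inv_pow ε k, hε, hA, inv_one, pow_zero, pow_zero, one_smul] at h1
  exact (add_right_cancel h1).symm

theorem pow_mul_proj {k : ℕ} {A : Module.End ℂ V} {ε : ℂ} (hA : A ^ k = 1) (hε : ε ^ k = 1) (hk : k ≠ 0) :
    ∀ j : ℕ, A ^ j * proj k A ε = ε ^ j • proj k A ε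
  | 0 => by rw [pow_zero, pow_zero, one_mul, one_smul]
  | j + 1 => by
    rw [pow_succ, mul_assoc, mul_proj hA hε hk, mul_smul_comm, pow_mul_proj hA hε hk j, smul_smul, pow_succ']

/-- The action of the projection on an eigenvector. -/
theorem proj_mul_of_eigen {k : ℕ} {A X : Module.End ℂ V} {ε : ℂ} (hk : k ≠ 0) (hε0 : ε ≠ 0)
    (h : A * X = ε • X) : proj k A ε * X = X := by
  have hp : ∀ j : ℕ, A ^ j * X = ε ^ j • X := by
    intro j
    induction j with
    | zero => rw [pow_zero, pow_zero, one_mul, one_smul]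
    | succ j ih => rw [pow_succ, mul_assoc, h, mul_smul_comm, ih, smul_smul, pow_succ']
  rw [proj, smul_mul_assoc, Finset.sum_mul,
    Finset.sum_congr rfl (g := fun _ => X) (fun j _ => by
      rw [smul_mul_assoc, hp, smul_smul, ← mul_pow, inv_mul_cancel₀ hε0, one_pow, one_smul]),
    Finset.sum_const, card_range, ← Nat.cast_smul_eq_nsmul ℂ, smul_smul,
    inv_mul_cancel₀ (Nat.cast_ne_zero.2 hk), one_smul]

theorem proj_idem {k : ℕ} {A : Module.End ℂ V} {ε : ℂ} (hA : A ^ k = 1) (hε : ε ^ k = 1) (hk : k ≠ 0) :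
    proj k A ε * proj k A ε = proj k A ε :=
  proj_mul_of_eigen hk (fun e => by rw [e, zero_pow hk] at hε; exact zero_ne_one hε) (mul_proj hA hε hk)

theorem geom_zero {k : ℕ} {ε : ℂ} (hε : ε ^ k = 1) (hne : ε ≠ 1) : ∑ j ∈ range k, ε ^ j = 0 := by
  rw [geom_sum_eq hne, hε, sub_self, zero_div]

/-- The projections sum to one. -/
theorem sum_proj {k : ℕ} {A : Module.End ℂ V} {ζ : ℂ} (hζ : IsPrimitiveRoot ζ k) (hk : k ≠ 0) :
    ∑ i ∈ range k, proj k A (ζ ^ i) = 1 := by
  simp only [proj, ← Finset.smul_sum]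
  rw [Finset.sum_comm]
  simp only [← Finset.sum_smul]
  rw [Finset.sum_eq_single_of_mem 0 (mem_range.2 (Nat.pos_of_ne_zero hk)) fun j hj hj0 => ?_]
  · simp only [pow_zero, Finset.sum_const, card_range, nsmul_eq_mul, mul_one, smul_smul,
      inv_mul_cancel₀ (Nat.cast_ne_zero.2 hk : (k : ℂ) ≠ 0), one_smul]
  · rw [Finset.sum_congr rfl (g := fun i => (ζ⁻¹ ^ j) ^ i) (fun i _ => by
      rw [← inv_pow, ← pow_mul, ← pow_mul, mul_comm]), geom_zero ?_ ?_, zero_smul]
    · rw [← pow_mul, mul_comm, pow_mul, inv_pow, hζ.pow_eq_one, inv_one, one_pow]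
    · exact hζ.inv.pow_ne_one_of_pos_of_lt hj0 (mem_range.1 hj)

/-- Conjugation of a projection. -/
theorem conj_proj {k : ℕ} {A B X X' : Module.End ℂ V} (h1 : X * X' = 1) (h2 : X' * X = 1)
    (hB : X * A * X' = B) (ε : ℂ) : X * proj k A ε * X' = proj k B ε := by
  have hp : ∀ j : ℕ, X * A ^ j * X' = B ^ j := by
    intro j
    induction j with
    | zero => rw [pow_zero, pow_zero, mul_one, h1]
    | succ j ih =>
      rw [pow_succ, pow_succ, ← ih, ← hB,
        show X * A ^ j * X' * (X * A * X') = X * A ^ j * (X' * X) * A * X' by noncomm_ring, h2]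
      noncomm_ring
  rw [proj, proj, mul_smul_comm, smul_mul_assoc, Finset.mul_sum, Finset.sum_mul]
  exact congrArg _ (Finset.sum_congr rfl fun j _ => by rw [mul_smul_comm, smul_mul_assoc, hp])

/-- The projection of the inverse endomorphism. -/
theorem proj_inverse {k : ℕ} {A B : Module.End ℂ V} (hAB : A * B = 1) (hBA : B * A = 1)
    (hA : A ^ k = 1) {ε : ℂ} (hε : ε ^ k = 1) (hk : k ≠ 0) : proj k B ε = proj k A ε⁻¹ := by
  have hε0 : ε ≠ 0 := fun e => by rw [e, zero_pow hk] at hε; exact zero_ne_one hε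
  have hB : B ^ k = 1 := by
    have := congrArg (fun X => X) (show (A * B) ^ k = 1 by rw [hAB, one_pow])
    rw [Commute.mul_pow (hAB.trans hBA.symm), hA, one_mul] at this
    exact this
  have hε' : ε⁻¹ ^ k = 1 := by rw [inv_pow, hε, inv_one]
  have e1 : A * proj k B ε = ε⁻¹ • proj k B ε := by
    have h := congrArg (A * ·) (mul_proj hB hε hk)
    simp only [← mul_assoc, hAB, one_mul, mul_smul_comm] at h
    conv_rhs => rw [h]
    rw [smul_smul, inv_mul_cancel₀ hε0, one_smul]
  have e2 : B * proj k A ε⁻¹ = ε • proj k A ε⁻¹ := by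
    have h := congrArg (B * ·) (mul_proj hA hε' hk)
    simp only [← mul_assoc, hBA, one_mul, mul_smul_comm] at h
    conv_rhs => rw [h]
    rw [smul_smul, mul_inv_cancel₀ hε0, one_smul]
  have c : Commute (proj k B ε) (proj k A ε⁻¹) :=
    commute_proj (commute_proj (show Commute A B from hAB.trans hBA.symm) ε).symm _
  rw [← proj_mul_of_eigen hk (inv_ne_zero hε0) e1, ← c.eq, proj_mul_of_eigen hk hε0 e2]

variable [FiniteDimensional ℂ V]

theorem trace_idem {Q : Module.End ℂ V} (hQ : Q * Q = Q) :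
    LinearMap.trace ℂ V Q = (finrank ℂ (LinearMap.range Q) : ℂ) :=
  ((LinearMap.isProj_range_iff_isIdempotentElem Q).2 hQ).trace

theorem eq_zero_of_trace_zero {Q : Module.End ℂ V} (hQ : Q * Q = Q) (h : LinearMap.trace ℂ V Q = 0) :
    Q = 0 := by
  rw [trace_idem hQ, Nat.cast_eq_zero] at h
  exact LinearMap.range_eq_bot.1 (Submodule.finrank_eq_zero.1 h)

/-- An idempotent below another with the same trace equals it. -/
theorem eq_of_trace_eq {P Q : Module.End ℂ V} (hP : P * P = P) (hQ : Q * Q = Q) (hPQ : P * Q = Q)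
    (hQP : Q * P = Q) (h : LinearMap.trace ℂ V Q = LinearMap.trace ℂ V P) : Q = P := by
  have h1 : (P - Q) * (P - Q) = P - Q := by
    rw [sub_mul, mul_sub, mul_sub, hP, hQ, hPQ, hQP]; abel
  exact (sub_eq_zero.1 (eq_zero_of_trace_zero h1 (by rw [map_sub, h, sub_self]))).symm

/-- The trace of a product with a projection when the traces along the powers are constant. -/
theorem trace_mul_proj {k : ℕ} (hk : k ≠ 0) {A X : Module.End ℂ V} {t : ℂ} {ε : ℂ} (hε : ε ^ k = 1)
    (h : ∀ j : ℕ, LinearMap.trace ℂ V (X * A ^ j) = t) :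
    LinearMap.trace ℂ V (X * proj k A ε) = if ε = 1 then t else 0 := by
  simp only [proj, mul_smul_comm, Finset.mul_sum, map_smul, map_sum, h, smul_eq_mul]
  rw [← Finset.mul_sum, ← Finset.sum_mul]
  split_ifs with h1
  · rw [h1]
    simp only [inv_one, one_pow, Finset.sum_const, card_range, nsmul_eq_mul, mul_one]
    rw [← mul_assoc, inv_mul_cancel₀ (Nat.cast_ne_zero.2 hk : (k : ℂ) ≠ 0), one_mul]
  · rw [geom_zero (by rw [inv_pow, hε, inv_one]) (fun e => h1 (inv_eq_one.1 e)), zero_mul, mul_zero]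

/-- Two invertible endomorphisms commuting up to a scalar on the range of an idempotent. -/
theorem comm_det {Q A A' B B' : Module.End ℂ V} (hQ : Q * Q = Q) (hA : A' * A = 1) (hB : B' * B = 1)
    (cA : Commute A Q) (cA' : Commute A' Q) (cB : Commute B Q) (cB' : Commute B' Q) {μ : ℂ}
    (h : A * B * Q = μ • (B * A * Q)) : μ ^ finrank ℂ (LinearMap.range Q) = 1 := by
  set U := LinearMap.range Q with hU
  have hinv : ∀ {X : Module.End ℂ V}, Commute X Q → ∀ x ∈ U, X x ∈ U := by
    rintro X hX x ⟨y, rfl⟩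
    exact ⟨X y, (LinearMap.congr_fun hX.eq y).symm⟩
  let a : U →ₗ[ℂ] U := A.restrict (hinv cA)
  let a' : U →ₗ[ℂ] U := A'.restrict (hinv cA')
  let b : U →ₗ[ℂ] U := B.restrict (hinv cB)
  let b' : U →ₗ[ℂ] U := B'.restrict (hinv cB')
  have ha : a' ∘ₗ a = LinearMap.id := LinearMap.ext fun x => Subtype.ext (LinearMap.congr_fun hA (x : V))
  have hb : b' ∘ₗ b = LinearMap.id := LinearMap.ext fun x => Subtype.ext (LinearMap.congr_fun hB (x : V))
  have hab : a ∘ₗ b = μ • (b ∘ₗ a) := by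
    refine LinearMap.ext fun x => Subtype.ext ?_
    have hx : Q (x : V) = x :=
      (LinearMap.IsIdempotentElem.mem_range_iff (show IsIdempotentElem Q from hQ)).1 x.2
    have := LinearMap.congr_fun h (x : V)
    simp only [Module.End.mul_apply, hx, LinearMap.smul_apply] at this
    exact this
  have d := congrArg LinearMap.det hab
  rw [LinearMap.det_comp, LinearMap.det_smul, LinearMap.det_comp] at d
  have d1 := congrArg LinearMap.det ha
  have d2 := congrArg LinearMap.det hb
  rw [LinearMap.det_comp, LinearMap.det_id] at d1 d2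
  have hne : LinearMap.det b * LinearMap.det a ≠ 0 :=
    mul_ne_zero (right_ne_zero_of_mul (ne_of_eq_of_ne d2 one_ne_zero))
      (right_ne_zero_of_mul (ne_of_eq_of_ne d1 one_ne_zero))
  refine mul_right_cancel₀ hne ?_
  rw [one_mul, ← d, mul_comm]

end Cfsg.Agent.SubdegThree.SDEnd
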