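import Cfsg.Agent.SubdegThree.SDEnd.Setup
import Cfsg.Agent.SubdegThree.SDEnd.Proj

/-!
# The semidihedral endgame: the small representation

Every nontrivial element of the odd kernel has one pair of inverse eigenvalues other than one, each of
multiplicity four, and the kernel acts by scalars on the three eigenspaces.
-/

set_option autoImplicit false

namespace Cfsg.Agent.SubdegThree.SDEnd

open Cfsg.Agent.InvolGL23
open Finset Module

universe u

local notation "GL23" => Matrix.GeneralLinearGroup (Fin 2) (ZMod 3)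

variable {K : Type u} [Group K] [Finite K] {z v h : K}
  {π : ↥(Subgroup.centralizer ({z} : Set K)) →* GL23}
  {V : Type*} [AddCommGroup V] [Module ℂ V] [FiniteDimensional ℂ V]

/-- A faithful representation of small degree with constant trace on the coset of `W` through `z`. -/
structure SmallRep (π : ↥(Subgroup.centralizer ({z} : Set K)) →* GL23) (R : K →* Module.End ℂ V)
    (n : ℕ) : Prop where
  inj : Function.Injective R
  dim : finrank ℂ V = n
  le : n ≤ 12
  ge : 8 ≤ n
  tr : ∀ a ∈ π.ker, LinearMap.trace ℂ V (R (z * (a : K))) = ((n - 8 : ℕ) : ℂ)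

namespace Hyp

variable (H : Hyp z v h π)
include H

theorem z_comm_ker {a : ↥(Subgroup.centralizer ({z} : Set K))} : Commute z (a : K) := (coe_comm a).symm

/-- Two lifts of elements of order four commuting up to `z`. -/
theorem exists_quat_lifts : ∃ a b : K, a * b = z * b * a ∧ Commute z a ∧ Commute z b ∧
    (∀ w ∈ π.ker, Commute a (w : K)) ∧ ∀ w ∈ π.ker, Commute b (w : K) := by
  obtain ⟨hqq, hi, hj⟩ := quat_pair
  have hsyl := syl_facts
  have h8 : ∀ q ∈ quat, qpow q 8 = qone := by decide +kernel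
  obtain ⟨a, ha, ha8⟩ := H.exists_lift (hsyl.1 (hsyl.2.1 hi)) (h8 _ hi)
  obtain ⟨b, hb, hb8⟩ := H.exists_lift (hsyl.1 (hsyl.2.1 hj)) (h8 _ hj)
  set zc : ↥(Subgroup.centralizer ({z} : Set K)) := ⟨z, z_mem⟩ with hzc
  have hk : (zc * b)⁻¹ * (a * b * a⁻¹) ∈ π.ker := by
    have e : π (a * b) = π (zc * b) * π a := toQ_injective (by
      simp only [map_mul, toQ_mul]
      rw [ha, hb, hzc, H.pi_z, hqq])
    rw [MonoidHom.mem_ker, map_mul _ (zc * b)⁻¹, map_mul _ (a * b), e, map_inv, map_inv]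
    group
  obtain ⟨c, hc, hc'⟩ : ∃ c ∈ π.ker, a * b * a⁻¹ = zc * b * c :=
    ⟨_, hk, (mul_inv_cancel_left _ _).symm⟩
  have hdb : qdet (toQ (π b)) = 1 := by rw [hb]; exact quat_det _ hj
  have hc1 : c = 1 := by
    have h1 : (zc * b * c) ^ 8 = 1 := by rw [← hc', conj_pow, hb8, mul_one, mul_inv_cancel]
    rw [mul_assoc, (show Commute zc (b * c) from cz_central _).mul_pow,
      (show Commute b c from H.comm_of_det hdb hc).mul_pow, hb8, one_mul,
      show zc ^ 8 = 1 by
        rw [show (8 : ℕ) = 2 * 4 by norm_num, pow_mul, sq, show zc * zc = 1 from Subtype.ext H.z_sq, one_pow],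
      one_mul] at h1
    refine orderOf_eq_one_iff.1 (Nat.eq_one_of_dvd_coprimes
      ((Nat.coprime_two_left.2 H.hodd).pow_left 3) (orderOf_dvd_of_pow_eq_one ?_)
      (orderOf_dvd_of_pow_eq_one (H.pow_card hc)))
    norm_num [h1]
  refine ⟨a, b, ?_, H.z_comm_ker, H.z_comm_ker, fun w hw => ?_, fun w hw => ?_⟩
  · rw [hc1, mul_one, mul_inv_eq_iff_eq_mul] at hc'
    exact congrArg Subtype.val hc'
  · exact congrArg Subtype.val (H.comm_of_det (by rw [ha]; exact quat_det _ hi) hw)
  · exact congrArg Subtype.val (H.comm_of_det hdb hw)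

variable {R : K →* Module.End ℂ V} {n : ℕ} (hR : SmallRep π R n)

omit H in
theorem map_inv_mul (x : K) : R x⁻¹ * R x = 1 := by rw [← map_mul, inv_mul_cancel, map_one]

include hR

omit hR in
/-- The dimension of a piece. -/
theorem dim_piece {Q : Module.End ℂ V}
    (hQ : Q * Q = Q) (hc : ∀ x : K, (∀ a ∈ π.ker, Commute x (a : K)) → Commute (R x) Q) {t : ℕ}
    (ht : LinearMap.trace ℂ V (R z * Q) = (t : ℂ)) :
    ∃ m, finrank ℂ (LinearMap.range Q) = 4 * m + t ∧ (m = 0 → R z * Q = Q) := by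
  obtain ⟨a, b, hab, hza, hzb, haw, hbw⟩ := H.exists_quat_lifts
  set Z := R z with hZ
  have hzz : Z * Z = 1 := by rw [hZ, ← map_mul, H.z_sq, map_one]
  have czQ : Commute Z Q := hc z fun _ _ => H.z_comm_ker
  set Q' : Module.End ℂ V := (2 : ℂ)⁻¹ • (Q - Z * Q) with hQ'
  have e1 : Q * (Z * Q) = Z * Q := by rw [← mul_assoc, ← czQ.eq, mul_assoc, hQ]
  have e2 : Z * Q * Q = Z * Q := by rw [mul_assoc, hQ]
  have e3 : Z * Q * (Z * Q) = Q := by rw [mul_assoc, e1, ← mul_assoc, hzz, one_mul]
  have hQ'2 : Q' * Q' = Q' := by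
    rw [hQ', smul_mul_assoc, mul_smul_comm, sub_mul, mul_sub, mul_sub, hQ, e1, e2, e3, smul_smul]
    module
  have hZQ' : Z * Q' = -Q' := by
    rw [hQ', mul_smul_comm, mul_sub, ← mul_assoc, hzz, one_mul, ← smul_neg, neg_sub]
  have cQ' : ∀ x : K, (∀ a ∈ π.ker, Commute x (a : K)) → Commute x z → Commute (R x) Q' := fun x h1 h2 =>
    (((hc x h1).sub_right ((show Commute (R x) Z from h2.map R).mul_right (hc x h1)))).smul_right _
  have hdet := comm_det (μ := -1) hQ'2 (map_inv_mul (R := R) a) (map_inv_mul (R := R) b)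
    (cQ' a haw hza.symm) (cQ' _ (fun c hc => (haw c hc).inv_left) hza.symm.inv_left)
    (cQ' b hbw hzb.symm) (cQ' _ (fun c hc => (hbw c hc).inv_left) hzb.symm.inv_left) (by
      rw [neg_one_smul, ← map_mul, ← map_mul, hab,
        show z * b * a = b * a * z by
          rw [hzb.eq, mul_assoc, hza.eq, ← mul_assoc],
        map_mul _ (b * a), mul_assoc, hZQ', mul_neg])
  obtain ⟨m, hm⟩ := (neg_one_pow_eq_one_iff_even (by norm_num : (-1 : ℂ) ≠ 1)).1 hdet
  have htr := trace_idem hQ'2
  rw [hQ', map_smul, map_sub, ht, trace_idem hQ, smul_eq_mul, hm] at htr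
  refine ⟨m, ?_, fun h0 => ?_⟩
  · have : (finrank ℂ (LinearMap.range Q) : ℂ) = ((4 * m + t : ℕ) : ℂ) := by
      push_cast at htr ⊢
      linear_combination (2 : ℂ) * htr
    exact_mod_cast this
  · have h1 : Q' = 0 := eq_zero_of_trace_zero hQ'2 (by rw [trace_idem hQ'2, hm, h0]; simp)
    rw [hQ', smul_eq_zero, sub_eq_zero] at h1
    exact (h1.resolve_left (by norm_num)).symm

theorem trace_one : LinearMap.trace ℂ V 1 = (n : ℂ) := by
  rw [LinearMap.trace_one, hR.dim]

/-- The three eigenspaces of a nontrivial element of `W`. -/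
theorem pieces {w : ↥(Subgroup.centralizer ({z} : Set K))} (hw : w ∈ π.ker) (hw1 : w ≠ 1) :
    ∃ (k : ℕ) (P : ℕ → Module.End ℂ V), ∑ i ∈ range k, P i = 1 ∧ ∀ i ∈ range k,
      P i * P i = P i ∧ (∀ x : K, Commute x (w : K) → Commute (R x) (P i)) ∧
      ((R z * P i = P i ∧ ∀ b ∈ π.ker, R (b : K) * P i = P i) ∨ P i = 0 ∨
        (LinearMap.trace ℂ V (P i) = 4 ∧ LinearMap.trace ℂ V (R z * P i) = 0 ∧
          ∀ b ∈ π.ker, ∃ l : ℂ, R (b : K) * P i = l • P i)) := by
  classical
  set k := orderOf (w : K) with hk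
  have hk0 : k ≠ 0 := (orderOf_pos _).ne'
  have hkodd : Odd k := by
    refine H.hodd.of_dvd_nat ?_
    rw [hk, Subgroup.orderOf_coe]
    exact orderOf_dvd_of_pow_eq_one (H.pow_card hw)
  obtain ⟨ζ, hζ⟩ : ∃ ζ : ℂ, IsPrimitiveRoot ζ k := ⟨_, Complex.isPrimitiveRoot_exp k hk0⟩
  set A := R (w : K) with hA
  have hAk : A ^ k = 1 := by rw [hA, ← map_pow, hk, pow_orderOf_eq_one, map_one]
  have hroot : ∀ i : ℕ, (ζ ^ i) ^ k = 1 := fun i => by
    rw [← pow_mul, mul_comm, pow_mul, hζ.pow_eq_one, one_pow]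
  set P : ℕ → Module.End ℂ V := fun i => proj k A (ζ ^ i) with hP
  have hsum : ∑ i ∈ range k, P i = 1 := sum_proj hζ hk0
  have hidem : ∀ i, P i * P i = P i := fun i => proj_idem hAk (hroot i) hk0
  have hcomm : ∀ i, ∀ x : K, Commute x (w : K) → Commute (R x) (P i) :=
    fun i x hx => commute_proj (hx.map R) _
  have hz0 : ∀ i ∈ range k, LinearMap.trace ℂ V (R z * P i) = (((if i = 0 then n - 8 else 0 : ℕ)) : ℂ) := by
    intro i hi
    rw [trace_mul_proj hk0 (hroot i) (t := ((n - 8 : ℕ) : ℂ)) fun j => by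
      rw [hA, ← map_pow, ← map_mul, ← Subgroup.coe_pow]; exact hR.tr _ (pow_mem hw j)]
    by_cases h0 : i = 0
    · rw [h0, pow_zero, if_pos rfl, if_pos rfl]
    · rw [if_neg h0, if_neg (hζ.pow_ne_one_of_pos_of_lt h0 (mem_range.1 hi)), Nat.cast_zero]
  choose m hm hm0 using fun i : range k =>
    H.dim_piece (hidem i.1) (fun x hx => hcomm i.1 x (hx w hw)) (hz0 i.1 i.2)
  set d : ℕ → ℕ := fun i => finrank ℂ (LinearMap.range (P i)) with hd
  have hdsum : ∑ i ∈ range k, d i = n := by
    have h := congrArg (LinearMap.trace ℂ V) hsum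
    rw [map_sum, trace_one H hR, Finset.sum_congr rfl fun i _ => trace_idem (hidem i)] at h
    exact_mod_cast h
  have hd4 : ∀ i (hi : i ∈ range k), d i = 4 * m ⟨i, hi⟩ + (if i = 0 then n - 8 else 0) :=
    fun i hi => hm ⟨i, hi⟩
  have hkpos : 0 ∈ range k := mem_range.2 (Nat.pos_of_ne_zero hk0)
  have hpair : ∀ i ∈ range k, i ≠ 0 → d 0 + 2 * d i ≤ n := by
    intro i hi hi0
    have hik := mem_range.1 hi
    have hkk : d (k - i) = d i := by
      have hinv : ζ ^ (k - i) = (ζ ^ i)⁻¹ := eq_inv_of_mul_eq_one_left (by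
        rw [← pow_add, Nat.sub_add_cancel hik.le, hζ.pow_eq_one])
      have hv1 : R v * R v⁻¹ = 1 := by rw [← map_mul, mul_inv_cancel, map_one]
      have hconj : R v * A * R v⁻¹ = R (w : K)⁻¹ := by
        rw [hA, ← map_mul, ← map_mul]
        exact congrArg R (congrArg Subtype.val (H.v_inverts hw))
      have h1 : R v * P i * R v⁻¹ = P (k - i) := by
        rw [hP]
        show R v * proj k A (ζ ^ i) * R v⁻¹ = proj k A (ζ ^ (k - i))
        rw [conj_proj hv1 (map_inv_mul v) hconj, hinv]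
        exact proj_inverse (by rw [hA, ← map_mul, mul_inv_cancel, map_one])
          (by rw [hA, ← map_mul, inv_mul_cancel, map_one]) hAk (hroot i) hk0
      have h2 : LinearMap.trace ℂ V (P (k - i)) = LinearMap.trace ℂ V (P i) := by
        rw [← h1, LinearMap.trace_mul_comm, ← mul_assoc, map_inv_mul v, one_mul]
      rw [trace_idem (hidem _), trace_idem (hidem _)] at h2
      exact_mod_cast h2
    have hne : i ≠ k - i := by
      obtain ⟨j, hj⟩ := hkodd
      omega
    have hle := Finset.sum_le_sum_of_subset (f := d) (show ({0, i, k - i} : Finset ℕ) ⊆ range k by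
      intro x hx
      simp at hx
      rcases hx with rfl | rfl | rfl
      · exact hkpos
      · exact hi
      · exact mem_range.2 (by omega))
    rw [Finset.sum_insert (by simp; omega), Finset.sum_pair hne, hkk, hdsum] at hle
    omega
  have hm00 : m ⟨0, hkpos⟩ = 0 := by
    by_contra hne
    have hzero : ∀ i ∈ range k, i ≠ 0 → P i = 0 := by
      intro i hi hi0
      refine eq_zero_of_trace_zero (hidem i) ?_
      have h1 := hpair i hi hi0
      have e1 := hd4 0 hkpos
      have e2 := hd4 i hi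
      rw [if_pos rfl] at e1
      rw [if_neg hi0] at e2
      have := hR.ge
      have : d i = 0 := by omega
      rw [trace_idem (hidem i), show finrank ℂ (LinearMap.range (P i)) = d i from rfl, this, Nat.cast_zero]
    have h1 : P 0 = 1 := by
      rw [← hsum, Finset.sum_eq_single_of_mem 0 hkpos fun i hi hi0 => hzero i hi hi0]
    have h2 : A = 1 := by
      have h3 := mul_proj hAk (hroot 0) hk0
      rw [show proj k A (ζ ^ 0) = P 0 from rfl, h1, mul_one, pow_zero, one_smul] at h3
      exact h3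
    exact hw1 (Subtype.ext (hR.inj (h2.trans R.map_one.symm)))
  refine ⟨k, P, hsum, fun i hi => ⟨hidem i, hcomm i, ?_⟩⟩
  have key : ∀ b ∈ π.ker, d i ≠ 0 → (i ≠ 0 → d i = 4) →
      ∃ l : ℂ, R (b : K) * P i = l • P i ∧ (i = 0 → l = 1) := by
    intro b hb hdi hdi4
    set B := R (b : K) with hB
    set k' := orderOf (b : K) with hk'
    have hk'0 : k' ≠ 0 := (orderOf_pos _).ne'
    have hBk : B ^ k' = 1 := by rw [hB, ← map_pow, hk', pow_orderOf_eq_one, map_one]
    obtain ⟨η, hη⟩ : ∃ η : ℂ, IsPrimitiveRoot η k' := ⟨_, Complex.isPrimitiveRoot_exp k' hk'0⟩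
    have hroot' : ∀ j : ℕ, (η ^ j) ^ k' = 1 := fun j => by
      rw [← pow_mul, mul_comm, pow_mul, hη.pow_eq_one, one_pow]
    have hbw : Commute (b : K) (w : K) := congrArg Subtype.val (H.ker_comm hb hw)
    have hcPB : Commute B (P i) := hcomm i _ hbw
    set Q : ℕ → Module.End ℂ V := fun j => P i * proj k' B (η ^ j) with hQ
    have hQi : ∀ j, Q j * Q j = Q j := fun j => by
      have c : Commute (P i) (proj k' B (η ^ j)) := commute_proj hcPB.symm _
      show P i * proj k' B (η ^ j) * (P i * proj k' B (η ^ j)) = P i * proj k' B (η ^ j)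
      rw [mul_assoc, ← mul_assoc (proj k' B (η ^ j)), ← c.eq, mul_assoc (P i) (proj k' B _),
        proj_idem hBk (hroot' j) hk'0, ← mul_assoc, hidem]
    have hQc : ∀ j, ∀ x : K, Commute x (w : K) → Commute x (b : K) → Commute (R x) (Q j) :=
      fun j x h1 h2 => (hcomm i x h1).mul_right (commute_proj (h2.map R) _)
    have hQz : ∀ j ∈ range k', LinearMap.trace ℂ V (R z * Q j) =
        (((if i = 0 ∧ j = 0 then n - 8 else 0 : ℕ)) : ℂ) := by
      intro j hj
      rw [hQ, ← mul_assoc, trace_mul_proj hk'0 (hroot' j) (t := (((if i = 0 then n - 8 else 0 : ℕ)) : ℂ))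
        fun t => by
          rw [mul_assoc, show P i * B ^ t = B ^ t * P i from ((hcPB.pow_left t).eq).symm, ← mul_assoc, hP,
            trace_mul_proj hk0 (hroot i) (t := ((n - 8 : ℕ) : ℂ)) fun s => by
              rw [hA, hB, ← map_pow, ← map_pow, ← map_mul, ← map_mul, mul_assoc, ← Subgroup.coe_pow,
                ← Subgroup.coe_pow, ← Subgroup.coe_mul]
              exact hR.tr _ (mul_mem (pow_mem hb t) (pow_mem hw s))]
          by_cases h0 : i = 0
          · rw [h0, pow_zero, if_pos rfl, if_pos rfl]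
          · rw [if_neg h0, if_neg (hζ.pow_ne_one_of_pos_of_lt h0 (mem_range.1 hi)), Nat.cast_zero]]
      by_cases hj0 : j = 0
      · simp [hj0]
      · rw [if_neg (hη.pow_ne_one_of_pos_of_lt hj0 (mem_range.1 hj)), if_neg (fun e => hj0 e.2), Nat.cast_zero]
    -- commutation needed for the dimension of the pieces of the product
    have hQm : ∀ j ∈ range k', ∃ q, finrank ℂ (LinearMap.range (Q j)) =
        4 * q + (if i = 0 ∧ j = 0 then n - 8 else 0) := by
      intro j hj
      obtain ⟨q, hq, -⟩ := H.dim_piece (hQi j) (fun x hx => hQc j x (hx w hw) (hx b hb)) (hQz j hj)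
      exact ⟨q, hq⟩
    have hQsum : ∑ j ∈ range k', Q j = P i := by
      simp only [hQ]
      rw [← Finset.mul_sum, sum_proj hη hk'0, mul_one]
    have htot : ∑ j ∈ range k', finrank ℂ (LinearMap.range (Q j)) = d i := by
      have h := congrArg (LinearMap.trace ℂ V) hQsum
      rw [map_sum, Finset.sum_congr rfl fun j _ => trace_idem (hQi j), trace_idem (hidem i)] at h
      exact_mod_cast h
    obtain ⟨j₀, hj₀, hbig, hj₀0⟩ : ∃ j₀ ∈ range k', d i ≤ finrank ℂ (LinearMap.range (Q j₀)) ∧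
        (i = 0 → j₀ = 0) := by
      by_cases h0 : i = 0
      · obtain ⟨q, hq⟩ := hQm 0 (mem_range.2 (Nat.pos_of_ne_zero hk'0))
        refine ⟨0, mem_range.2 (Nat.pos_of_ne_zero hk'0), ?_, fun _ => rfl⟩
        rw [hq, if_pos ⟨h0, rfl⟩]
        have e1 := hd4 i hi
        rw [if_pos h0] at e1
        subst h0
        rw [hm00] at e1
        omega
      · obtain ⟨j₀, hj₀, hne⟩ := Finset.exists_ne_zero_of_sum_ne_zero (htot ▸ hdi)
        obtain ⟨q, hq⟩ := hQm j₀ hj₀
        rw [if_neg (fun e => h0 e.1)] at hq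
        exact ⟨j₀, hj₀, by have := hdi4 h0; omega, fun e => absurd e h0⟩
    have hother : ∀ j ∈ range k', j ≠ j₀ → Q j = 0 := by
      intro j hj hne
      refine eq_zero_of_trace_zero (hQi j) ?_
      have := Finset.add_le_sum (f := fun j => finrank ℂ (LinearMap.range (Q j)))
        (fun _ _ => Nat.zero_le _) hj hj₀ hne
      rw [htot] at this
      rw [trace_idem (hQi j), show finrank ℂ (LinearMap.range (Q j)) = 0 by omega, Nat.cast_zero]
    have hPQ : Q j₀ = P i := by
      rw [← hQsum, Finset.sum_eq_single_of_mem j₀ hj₀ fun j hj hne => hother j hj hne]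
    refine ⟨η ^ j₀, ?_, fun h0 => by rw [hj₀0 h0, pow_zero]⟩
    rw [← hPQ]
    show B * (P i * proj k' B (η ^ j₀)) = η ^ j₀ • (P i * proj k' B (η ^ j₀))
    rw [← mul_assoc, hcPB.eq, mul_assoc, mul_proj hBk (hroot' j₀) hk'0, mul_smul_comm]
  by_cases h0 : i = 0
  · subst h0
    by_cases hz' : d 0 = 0
    · exact Or.inr (Or.inl (eq_zero_of_trace_zero (hidem 0) (by
        rw [trace_idem (hidem 0), show finrank ℂ (LinearMap.range (P 0)) = d 0 from rfl, hz', Nat.cast_zero])))
    left
    refine ⟨hm0 ⟨0, hi⟩ hm00, fun b hb => ?_⟩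
    obtain ⟨l, hl, hl1⟩ := key b hb hz' (fun e => absurd rfl e)
    rw [hl, hl1 rfl, one_smul]
  · right
    have e1 := hd4 i hi
    have e0 := hd4 0 hkpos
    rw [if_neg h0] at e1
    rw [if_pos rfl, hm00] at e0
    have h1 := hpair i hi h0
    have := hR.ge
    by_cases hz' : d i = 0
    · left
      exact eq_zero_of_trace_zero (hidem i) (by
        rw [trace_idem (hidem i), show finrank ℂ (LinearMap.range (P i)) = d i from rfl, hz', Nat.cast_zero])
    · right
      have h4 : d i = 4 := by omega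
      refine ⟨?_, ?_, fun b hb => ?_⟩
      · rw [trace_idem (hidem i), show finrank ℂ (LinearMap.range (P i)) = d i from rfl, h4]; norm_num
      · rw [hz0 i hi, if_neg h0, Nat.cast_zero]
      · obtain ⟨l, hl, -⟩ := key b hb hz' fun _ => h4
        exact ⟨l, hl⟩

end Hyp

end Cfsg.Agent.SubdegThree.SDEnd
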