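import Cfsg.Agent.SubdegThree.SDEnd.Model
import Cfsg.Agent.Core.PCore
import Cfsg.Agent.Fusion.Alperin

/-!
# The semidihedral endgame: the centraliser

An involution centraliser mapping onto GL(2,3) with odd kernel `W`, with a fours group equal to its own
centraliser: `W` is abelian, inverted by the elements of determinant two and centralised by the others.
-/

set_option autoImplicit false

namespace Cfsg.Agent.SubdegThree.SDEnd

open Cfsg.Agent.InvolGL23

universe u

local notation "GL23" => Matrix.GeneralLinearGroup (Fin 2) (ZMod 3)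

variable {K : Type u} [Group K] {z v h : K}

/-- The hypotheses. -/
structure Hyp (z v h : K) (π : ↥(Subgroup.centralizer ({z} : Set K)) →* GL23) : Prop where
  hz : orderOf z = 2
  hsurj : Function.Surjective π
  hodd : Odd (Nat.card π.ker)
  hv : orderOf v = 2
  hvz : v * z = z * v
  hne : v ≠ z
  hh : h * z * h⁻¹ = v
  hCV : Subgroup.centralizer ({z, v} : Set K) = Subgroup.closure ({z, v} : Set K)
  hnorm : ∀ N : Subgroup K, N.Normal → N ≠ ⊥ → z ∈ N
  htrick : ∀ w ∈ π.ker, w ≠ 1 → ∀ b ∈ π.ker,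
    h * (b : K) * h⁻¹ * (w : K) = (w : K) * (h * (b : K) * h⁻¹) → b = 1

theorem eq_one_of_odd {G : Type*} [Group G] {x : G} {m : ℕ} (hm : Odd m) (h : x ^ m = 1) (h2 : x * x = 1) :
    x = 1 := by
  obtain ⟨k, rfl⟩ := hm
  rwa [pow_succ, pow_mul, sq, h2, one_pow, one_mul] at h

variable {π : ↥(Subgroup.centralizer ({z} : Set K)) →* GL23}

namespace Hyp

variable [Finite K] (H : Hyp z v h π)
include H

theorem z_sq : z * z = 1 := by rw [← sq, ← H.hz, pow_orderOf_eq_one]

theorem z_inv : z⁻¹ = z := inv_eq_of_mul_eq_one_right H.z_sq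

theorem z_ne : z ≠ 1 := by
  intro h1
  have := H.hz
  rw [h1, orderOf_one] at this
  omega

theorem v_sq : v * v = 1 := by rw [← sq, ← H.hv, pow_orderOf_eq_one]

omit H [Finite K] in
theorem coe_comm (c : ↥(Subgroup.centralizer ({z} : Set K))) : (c : K) * z = z * c :=
  Subgroup.mem_centralizer_singleton_iff.1 c.2

omit H [Finite K] in
theorem z_mem : z ∈ Subgroup.centralizer ({z} : Set K) := Subgroup.mem_centralizer_singleton_iff.2 rfl

theorem v_mem : v ∈ Subgroup.centralizer ({z} : Set K) := Subgroup.mem_centralizer_singleton_iff.2 H.hvz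

omit H [Finite K] in
/-- `z` in its centraliser. -/
theorem exists_cz : ∃ c : ↥(Subgroup.centralizer ({z} : Set K)), (c : K) = z := ⟨⟨z, z_mem⟩, rfl⟩

omit H [Finite K] in
theorem cz_central (c : ↥(Subgroup.centralizer ({z} : Set K))) :
    ⟨z, z_mem⟩ * c = c * ⟨z, z_mem⟩ := Subtype.ext (coe_comm c).symm

theorem pow_card {w : ↥(Subgroup.centralizer ({z} : Set K))} (hw : w ∈ π.ker) :
    w ^ Nat.card π.ker = 1 := by
  have h := congrArg Subtype.val (pow_card_eq_one' (x := (⟨w, hw⟩ : π.ker)))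
  simpa using h

theorem eq_one {w : ↥(Subgroup.centralizer ({z} : Set K))} (hw : w ∈ π.ker) (h2 : w * w = 1) : w = 1 :=
  eq_one_of_odd H.hodd (H.pow_card hw) h2

/-- Square roots in `W`. -/
theorem exists_sqrt {w : ↥(Subgroup.centralizer ({z} : Set K))} (hw : w ∈ π.ker) :
    ∃ a ∈ π.ker, a * a = w := by
  refine ⟨w ^ ((Nat.card π.ker + 1) / 2), pow_mem hw _, ?_⟩
  obtain ⟨k, hk⟩ := H.hodd
  rw [← pow_add, show (Nat.card π.ker + 1) / 2 + (Nat.card π.ker + 1) / 2 = Nat.card π.ker + 1 by omega,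
    pow_succ, H.pow_card hw, one_mul]

/-- The image of `z`. -/
theorem pi_z : toQ (π ⟨z, z_mem⟩) = qneg := by
  refine central_eq _ (toQ_mem _) ?_ (fun h => ?_) fun r hr => ?_
  · rw [← toQ_mul, ← map_mul, show (⟨z, z_mem⟩ : ↥(Subgroup.centralizer ({z} : Set K))) * ⟨z, z_mem⟩ = 1
      from Subtype.ext H.z_sq, map_one, toQ_one]
  · exact H.z_ne (congrArg Subtype.val (H.eq_one (w := ⟨z, z_mem⟩)
      (MonoidHom.mem_ker.2 (toQ_injective (h.trans toQ_one.symm))) (Subtype.ext H.z_sq)))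
  · obtain ⟨g, rfl⟩ := toQ_surj hr
    obtain ⟨c, rfl⟩ := H.hsurj g
    rw [← toQ_mul, ← toQ_mul, ← map_mul, ← map_mul, cz_central]

theorem eq_z {c : ↥(Subgroup.centralizer ({z} : Set K))} (h2 : c * c = 1) (hc : toQ (π c) = qneg) :
    c = ⟨z, z_mem⟩ := by
  have hk : c * ⟨z, z_mem⟩ ∈ π.ker := by
    rw [MonoidHom.mem_ker, map_mul, toQ_injective (hc.trans H.pi_z.symm), ← map_mul,
      show (⟨z, z_mem⟩ : ↥(Subgroup.centralizer ({z} : Set K))) * ⟨z, z_mem⟩ = 1 from Subtype.ext H.z_sq,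
      map_one]
  have h1 := H.eq_one hk (by
    rw [mul_assoc, ← mul_assoc (⟨z, z_mem⟩ : ↥(Subgroup.centralizer ({z} : Set K))) c, cz_central, mul_assoc c,
      ← mul_assoc c c, h2, one_mul]
    exact Subtype.ext H.z_sq)
  calc c = c * ⟨z, z_mem⟩ * ⟨z, z_mem⟩ := by
        rw [mul_assoc, show (⟨z, z_mem⟩ : ↥(Subgroup.centralizer ({z} : Set K))) * ⟨z, z_mem⟩ = 1
          from Subtype.ext H.z_sq, mul_one]
    _ = _ := by rw [h1, one_mul]

theorem pi_invol {c : ↥(Subgroup.centralizer ({z} : Set K))} (h2 : c * c = 1) (h1 : c ≠ 1)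
    (hz' : (c : K) ≠ z) : toQ (π c) ∈ refl := by
  refine Finset.mem_filter.2 ⟨Finset.mem_filter.2 ⟨toQ_mem _, ?_, fun h => h1 ?_⟩,
    fun h => hz' (congrArg Subtype.val (H.eq_z h2 h))⟩
  · rw [← toQ_mul, ← map_mul, h2, map_one, toQ_one]
  · exact H.eq_one (MonoidHom.mem_ker.2 (toQ_injective (h.trans toQ_one.symm))) h2

theorem v_ne : (⟨v, H.v_mem⟩ : ↥(Subgroup.centralizer ({z} : Set K))) ≠ 1 := fun h1 => by
  have := H.hv
  rw [show v = 1 from congrArg Subtype.val h1, orderOf_one] at this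
  omega

theorem pi_v : toQ (π ⟨v, H.v_mem⟩) ∈ refl :=
  H.pi_invol (Subtype.ext H.v_sq) H.v_ne H.hne

/-- The centraliser of the fours group has exponent two. -/
theorem centralizer_four {x : K} (h1 : x * z = z * x) (h2 : x * v = v * x) : x * x = 1 := by
  have hx : x ∈ Subgroup.closure ({z, v} : Set K) := by
    rw [← H.hCV, Subgroup.mem_centralizer_iff]
    rintro g (rfl | rfl)
    exacts [h1.symm, h2.symm]
  suffices ∀ y, y ∈ Subgroup.closure ({z, v} : Set K) → y * y = 1 ∧ Commute y z ∧ Commute y v from (this x hx).1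
  intro y hy
  induction hy using Subgroup.closure_induction with
  | mem g hg =>
    rcases hg with rfl | rfl
    · exact ⟨H.z_sq, Commute.refl _, H.hvz.symm⟩
    · exact ⟨H.v_sq, H.hvz, Commute.refl _⟩
  | one => exact ⟨one_mul 1, Commute.one_left _, Commute.one_left _⟩
  | mul a b ha hb iha ihb =>
    refine ⟨?_, iha.2.1.mul_left ihb.2.1, iha.2.2.mul_left ihb.2.2⟩
    have hab : Commute a b := by
      have hle : Subgroup.closure ({z, v} : Set K) ≤ Subgroup.centralizer ({a} : Set K) := by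
        rw [Subgroup.closure_le]
        rintro g (rfl | rfl)
        · exact Subgroup.mem_centralizer_singleton_iff.2 iha.2.1.symm.eq
        · exact Subgroup.mem_centralizer_singleton_iff.2 iha.2.2.symm.eq
      exact (Subgroup.mem_centralizer_singleton_iff.1 (hle hb)).symm
    rw [← (hab.mul_mul_mul_comm a b), iha.1, ihb.1, one_mul]
  | inv a ha iha => exact ⟨by rw [← mul_inv_rev, iha.1, inv_one], iha.2.1.inv_left, iha.2.2.inv_left⟩

theorem v_inverts {w : ↥(Subgroup.centralizer ({z} : Set K))} (hw : w ∈ π.ker) :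
    ⟨v, H.v_mem⟩ * w * ⟨v, H.v_mem⟩⁻¹ = w⁻¹ := by
  set t : ↥(Subgroup.centralizer ({z} : Set K)) := ⟨v, H.v_mem⟩ with ht
  have ht2 : t * t = 1 := Subtype.ext H.v_sq
  have htt : t⁻¹ = t := inv_eq_of_mul_eq_one_right ht2
  let f : π.ker → π.ker := fun a => ⟨(a : ↥(Subgroup.centralizer ({z} : Set K)))⁻¹ * (t * a * t⁻¹),
    mul_mem (inv_mem a.2) ((inferInstance : π.ker.Normal).conj_mem _ a.2 t)⟩
  have hinj : Function.Injective f := fun a b hab => by
    have h1 := congrArg Subtype.val hab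
    simp only [f] at h1
    refine Subtype.ext ?_
    have hfix : t * ((b : ↥(Subgroup.centralizer ({z} : Set K))) * (a : ↥(Subgroup.centralizer ({z} : Set K)))⁻¹) * t⁻¹ =
        b * (a : ↥(Subgroup.centralizer ({z} : Set K)))⁻¹ := by
      rw [eq_comm, inv_mul_eq_iff_eq_mul] at h1
      calc t * (b * (a : ↥(Subgroup.centralizer ({z} : Set K)))⁻¹) * t⁻¹
          = t * b * t⁻¹ * (t * a * t⁻¹)⁻¹ := by group
        _ = _ := by rw [h1]; group
    have hk : (b : ↥(Subgroup.centralizer ({z} : Set K))) * (a : ↥(Subgroup.centralizer ({z} : Set K)))⁻¹ ∈ π.ker :=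
      mul_mem b.2 (inv_mem a.2)
    have hc : ((b : ↥(Subgroup.centralizer ({z} : Set K))) * (a : ↥(Subgroup.centralizer ({z} : Set K)))⁻¹) *
        ((b : ↥(Subgroup.centralizer ({z} : Set K))) * (a : ↥(Subgroup.centralizer ({z} : Set K)))⁻¹) = 1 := by
      refine Subtype.ext ?_
      refine H.centralizer_four (coe_comm _) ?_
      exact congrArg Subtype.val (mul_inv_eq_iff_eq_mul.1 hfix).symm
    exact (mul_inv_eq_one.1 (H.eq_one hk hc)).symm
  obtain ⟨⟨a, ha⟩, rfl⟩ : ∃ a : π.ker, (f a : ↥(Subgroup.centralizer ({z} : Set K))) = w := by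
    obtain ⟨a, ha⟩ := Finite.injective_iff_surjective.1 hinj ⟨w, hw⟩
    exact ⟨a, congrArg Subtype.val ha⟩
  show t * (a⁻¹ * (t * a * t⁻¹)) * t⁻¹ = (a⁻¹ * (t * a * t⁻¹))⁻¹
  rw [htt]
  simp only [mul_inv_rev, htt, inv_inv, mul_assoc, ht2, mul_one]

theorem ker_comm {a b : ↥(Subgroup.centralizer ({z} : Set K))} (ha : a ∈ π.ker) (hb : b ∈ π.ker) :
    a * b = b * a := by
  have h1 := H.v_inverts (mul_mem ha hb)
  have h2 : ⟨v, H.v_mem⟩ * (a * b) * ⟨v, H.v_mem⟩⁻¹ = a⁻¹ * b⁻¹ := by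
    rw [← H.v_inverts ha, ← H.v_inverts hb]; group
  rw [h2, mul_inv_rev] at h1
  calc a * b = (b⁻¹ * a⁻¹)⁻¹ := by group
    _ = (a⁻¹ * b⁻¹)⁻¹ := by rw [h1]
    _ = b * a := by group

theorem refl_inverts {c : ↥(Subgroup.centralizer ({z} : Set K))} (hc : toQ (π c) ∈ refl)
    {w : ↥(Subgroup.centralizer ({z} : Set K))} (hw : w ∈ π.ker) : c * w * c⁻¹ = w⁻¹ := by
  obtain ⟨r, hr, hr'⟩ := refl_conj _ hc _ H.pi_v
  obtain ⟨g, rfl⟩ := toQ_surj hr
  obtain ⟨k, rfl⟩ := H.hsurj g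
  set t : ↥(Subgroup.centralizer ({z} : Set K)) := ⟨v, H.v_mem⟩
  have he : π (k * t * k⁻¹) = π c := by
    rw [← toQ_mul, ← toQ_mul] at hr'
    rw [map_mul, map_mul, map_inv, toQ_injective hr', mul_inv_cancel_right]
  have hk : (k * t * k⁻¹)⁻¹ * c ∈ π.ker := by
    rw [MonoidHom.mem_ker, map_mul, map_inv, he, inv_mul_cancel]
  obtain ⟨u, hu, hcu⟩ : ∃ u ∈ π.ker, c = k * t * k⁻¹ * u := ⟨_, hk, (mul_inv_cancel_left _ _).symm⟩
  have hw' : k⁻¹ * w * k ∈ π.ker := by
    simpa using (inferInstance : π.ker.Normal).conj_mem _ hw k⁻¹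
  calc c * w * c⁻¹ = k * t * k⁻¹ * (u * w * u⁻¹) * (k * t * k⁻¹)⁻¹ := by rw [hcu]; group
    _ = k * (t * (k⁻¹ * w * k) * t⁻¹) * k⁻¹ := by
        rw [show u * w * u⁻¹ = w by rw [H.ker_comm hu hw, mul_inv_cancel_right]]; group
    _ = w⁻¹ := by rw [H.v_inverts hw']; group

/-- Determinant one centralises `W`, determinant two inverts it. -/
theorem conj_ker {c : ↥(Subgroup.centralizer ({z} : Set K))} {w : ↥(Subgroup.centralizer ({z} : Set K))}
    (hw : w ∈ π.ker) : c * w * c⁻¹ = if qdet (toQ (π c)) = 1 then w else w⁻¹ := by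
  have key : ∀ c : ↥(Subgroup.centralizer ({z} : Set K)), qdet (toQ (π c)) = 1 → c * w * c⁻¹ = w := by
    intro c hc
    obtain ⟨a, ha, ha'⟩ := det_one_split _ (toQ_mem _) hc
    obtain ⟨g, rfl⟩ := toQ_surj (Finset.mem_filter.1 (Finset.mem_filter.1 ha).1).1
    obtain ⟨k, rfl⟩ := H.hsurj g
    have h1 := H.refl_inverts (c := k * c) (by rwa [map_mul, toQ_mul]) hw
    have h2 := H.refl_inverts (c := k) ha ((inferInstance : π.ker.Normal).conj_mem _ hw c)
    have h3 : k * (c * w * c⁻¹) * k⁻¹ = k * c * w * (k * c)⁻¹ := by group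
    rw [h3, h1] at h2
    exact (inv_injective h2).symm
  rcases det_cases _ (toQ_mem (π c)) with hd | hd
  · rw [if_pos hd, key c hd]
  · rw [if_neg (by rw [hd]; decide)]
    set t : ↥(Subgroup.centralizer ({z} : Set K)) := ⟨v, H.v_mem⟩
    have h1 : qdet (toQ (π (t * c))) = 1 := by
      rw [map_mul, toQ_mul, qdet_mul, refl_det _ H.pi_v, hd]; decide
    have h2 := key (t * c) h1
    have h3 := H.v_inverts ((inferInstance : π.ker.Normal).conj_mem _ hw c)
    have h4 : t * (c * w * c⁻¹) * t⁻¹ = w := by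
      refine Eq.trans ?_ h2
      group
    rw [h4] at h3
    conv_rhs => rw [h3, inv_inv]

theorem comm_of_det {c w : ↥(Subgroup.centralizer ({z} : Set K))} (hc : qdet (toQ (π c)) = 1)
    (hw : w ∈ π.ker) : c * w = w * c := by
  have := H.conj_ker (c := c) hw
  rw [if_pos hc, mul_inv_eq_iff_eq_mul] at this
  exact this

/-- An involution of determinant one is `z`. -/
theorem eq_z_of_det {c : ↥(Subgroup.centralizer ({z} : Set K))} (h2 : c * c = 1) (h1 : c ≠ 1)
    (hc : qdet (toQ (π c)) = 1) : (c : K) = z := by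
  by_contra hne
  rw [refl_det _ (H.pi_invol h2 h1 hne)] at hc
  exact absurd hc (by decide)

/-- All involutions of the centraliser are conjugate to `z`. -/
theorem fusion {u : ↥(Subgroup.centralizer ({z} : Set K))} (h2 : u * u = 1) (h1 : u ≠ 1) :
    ∃ k : K, k * z * k⁻¹ = u := by
  by_cases huz : (u : K) = z
  · exact ⟨1, by rw [huz, one_mul, inv_one, mul_one]⟩
  obtain ⟨r, hr, hr'⟩ := refl_conj _ (H.pi_invol h2 h1 huz) _ H.pi_v
  obtain ⟨g, rfl⟩ := toQ_surj hr
  obtain ⟨k, rfl⟩ := H.hsurj g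
  set t : ↥(Subgroup.centralizer ({z} : Set K)) := ⟨v, H.v_mem⟩
  set t' := k * t * k⁻¹ with ht'
  have ht2 : t' * t' = 1 := by
    rw [ht', show k * t * k⁻¹ * (k * t * k⁻¹) = k * (t * t) * k⁻¹ by group,
      show t * t = 1 from Subtype.ext H.v_sq, mul_one, mul_inv_cancel]
  have hk : t' * u ∈ π.ker := by
    rw [← toQ_mul, ← toQ_mul] at hr'
    rw [MonoidHom.mem_ker, map_mul, ht', map_mul, map_mul, map_inv, toQ_injective hr', mul_inv_cancel_right,
      ← map_mul, h2, map_one]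
  obtain ⟨a, ha, haw⟩ := H.exists_sqrt hk
  have hr'' : toQ (π t') ∈ refl := by
    refine H.pi_invol ht2 (fun e => ?_) (fun e => ?_)
    · exact H.v_ne (conj_eq_one_iff.1 e)
    · refine H.hne ?_
      have h5 : t = k⁻¹ * ⟨z, z_mem⟩ * k := by
        rw [← show t' = (⟨z, z_mem⟩ : ↥(Subgroup.centralizer ({z} : Set K))) from Subtype.ext e, ht']
        group
      rw [mul_assoc, cz_central, inv_mul_cancel_left] at h5
      exact congrArg Subtype.val h5
  have hta := H.refl_inverts hr'' (inv_mem ha)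
  rw [inv_inv, mul_inv_eq_iff_eq_mul] at hta
  refine ⟨((a⁻¹ * k : ↥(Subgroup.centralizer ({z} : Set K))) : K) * h, ?_⟩
  have hu : u = a⁻¹ * t' * a := by
    have h6 : u = t' * (a * a) := by rw [haw, ← mul_assoc, ht2, one_mul]
    have h7 : a⁻¹ * t' = t' * a := by
      calc a⁻¹ * t' = a⁻¹ * (a * t' * a) := by rw [← hta]; group
        _ = t' * a := by group
    rw [h6, h7, ← mul_assoc]
  rw [hu, ht']
  simp only [Subgroup.coe_mul, Subgroup.coe_inv, t]
  rw [← H.hh]
  group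

theorem card_C : Nat.card ↥(Subgroup.centralizer ({z} : Set K)) = 48 * Nat.card π.ker := by
  have h := π.ker.card_mul_index
  rw [Subgroup.index_ker, MonoidHom.range_eq_top.2 H.hsurj, Subgroup.card_top, card_gl23] at h
  rw [← h, mul_comm]

/-- The order modulo thirty-two. -/
theorem card_mod : Nat.card K % 32 = 16 := by
  let SS : Subgroup GL23 :=
    { carrier := {g | toQ g ∈ syl}
      one_mem' := by simpa [toQ_one] using syl_facts.2.1 syl_facts.2.2.1
      mul_mem' := fun {a b} ha hb => by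
        show toQ (a * b) ∈ syl
        rw [toQ_mul]; exact syl_mul.1 _ ha _ hb
      inv_mem' := fun {a} ha => by
        obtain ⟨b, hb, hab⟩ := syl_mul.2.1 _ ha
        obtain ⟨b, rfl⟩ := toQ_surj (syl_facts.1 hb)
        rw [← toQ_mul, ← toQ_one] at hab
        show toQ a⁻¹ ∈ syl
        rwa [inv_eq_of_mul_eq_one_right (toQ_injective hab)] }
  have hSS : Nat.card SS = 16 := by
    rw [← syl_facts.2.2.2.2.2.2.1, ← Fintype.card_coe, ← Nat.card_eq_fintype_card]
    refine Nat.card_congr (Equiv.ofBijective (fun g => ⟨toQ g.1, g.2⟩) ⟨fun g k hgk => ?_, fun q => ?_⟩)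
    · exact Subtype.ext (toQ_injective (congrArg Subtype.val hgk))
    · obtain ⟨g, hg⟩ := toQ_surj (syl_facts.1 q.2)
      exact ⟨⟨g, show toQ g ∈ syl from hg ▸ q.2⟩, Subtype.ext hg⟩
  have hc : Nat.card (SS.comap π) = 16 * Nat.card π.ker := by
    have h1 := (SS.comap π).card_mul_index
    rw [Subgroup.index_comap_of_surjective _ H.hsurj, H.card_C] at h1
    have h2 := SS.card_mul_index
    rw [hSS, card_gl23] at h2
    rw [show SS.index = 3 by omega] at h1
    omega
  have : Fact (Nat.Prime 2) := ⟨Nat.prime_two⟩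
  obtain ⟨T, hT⟩ := Sylow.exists_subgroup_card_pow_prime (G := SS.comap π) 2 (n := 4)
    (by rw [hc]; exact dvd_mul_right _ _)
  set S₀ := (T.map (SS.comap π).subtype).map (Subgroup.centralizer ({z} : Set K)).subtype with hS₀
  have hS₀c : Nat.card S₀ = 2 ^ 4 := by
    rw [hS₀, Subgroup.card_map_of_injective (Subgroup.subtype_injective _),
      Subgroup.card_map_of_injective (Subgroup.subtype_injective _), hT]
  obtain ⟨S, hS⟩ := (IsPGroup.of_card hS₀c).exists_le_sylow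
  -- every element of the model lifts to `T`
  have honto : ∀ q ∈ syl, ∃ c : ↥(Subgroup.centralizer ({z} : Set K)), (c : K) ∈ S₀ ∧ toQ (π c) = q := by
    intro q hq
    let ρ : T → SS := fun c => ⟨π c.1.1, c.1.2⟩
    have hinj : Function.Injective ρ := fun a b hab => by
      have h1 : π a.1.1 = π b.1.1 := congrArg Subtype.val hab
      have hk : (a⁻¹ * b : T).1.1 ∈ π.ker := by
        rw [MonoidHom.mem_ker]
        simp only [Subgroup.coe_mul, Subgroup.coe_inv, map_mul, map_inv, h1, inv_mul_cancel]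
      have h4 : ((a⁻¹ * b : T).1.1) ^ (2 ^ 4) = 1 := by
        have := congrArg (fun x : T => x.1.1) (pow_card_eq_one' (x := a⁻¹ * b))
        simpa [hT] using this
      have h5 : (a⁻¹ * b : T).1.1 = 1 := by
        have ho := orderOf_dvd_of_pow_eq_one h4
        have ho' := orderOf_dvd_of_pow_eq_one (H.pow_card hk)
        refine orderOf_eq_one_iff.1 (Nat.eq_one_of_dvd_coprimes (Nat.Coprime.pow_left 4 ?_) ho ho')
        exact Nat.coprime_two_left.2 H.hodd
      exact inv_mul_eq_one.1 (Subtype.ext (Subtype.ext h5))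
    have hb := (Nat.bijective_iff_injective_and_card ρ).2 ⟨hinj, by rw [hT, hSS]; norm_num⟩
    obtain ⟨g, rfl⟩ := toQ_surj (syl_facts.1 hq)
    obtain ⟨c, hc'⟩ := hb.2 ⟨g, hq⟩
    exact ⟨c.1.1, ⟨_, ⟨_, c.2, rfl⟩, rfl⟩, congrArg toQ (congrArg Subtype.val hc')⟩
  have hzS : z ∈ S₀ := by
    obtain ⟨c, hc1, hc2⟩ := honto qneg syl_facts.2.2.2.2.2.1
    have hk : c * ⟨z, z_mem⟩ ∈ π.ker := by
      rw [MonoidHom.mem_ker, map_mul, toQ_injective (hc2.trans H.pi_z.symm), ← map_mul,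
        show (⟨z, z_mem⟩ : ↥(Subgroup.centralizer ({z} : Set K))) * ⟨z, z_mem⟩ = 1 from Subtype.ext H.z_sq,
        map_one]
    have h4 : c ^ (2 ^ 4) = 1 := by
      have := pow_card_eq_one' (x := (⟨(c : K), hc1⟩ : S₀))
      rw [hS₀c] at this
      exact Subtype.ext (by simpa using congrArg Subtype.val this)
    have h16 : (c * ⟨z, z_mem⟩) ^ (2 ^ 4) = 1 := by
      rw [Commute.mul_pow (cz_central c).symm, h4,
        show (⟨z, z_mem⟩ : ↥(Subgroup.centralizer ({z} : Set K))) ^ (2 ^ 4) = (⟨z, z_mem⟩ * ⟨z, z_mem⟩) ^ 8 by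
          rw [← pow_two, ← pow_mul]; norm_num,
        show (⟨z, z_mem⟩ : ↥(Subgroup.centralizer ({z} : Set K))) * ⟨z, z_mem⟩ = 1 from Subtype.ext H.z_sq,
        one_pow, one_mul]
    have h1 : c * ⟨z, z_mem⟩ = 1 := orderOf_eq_one_iff.1 (Nat.eq_one_of_dvd_coprimes
      ((Nat.coprime_two_left.2 H.hodd).pow_left 4) (orderOf_dvd_of_pow_eq_one h16)
      (orderOf_dvd_of_pow_eq_one (H.pow_card hk)))
    have : c = ⟨z, z_mem⟩ := by
      rw [← inv_eq_of_mul_eq_one_left h1]
      exact inv_eq_of_mul_eq_one_right (Subtype.ext H.z_sq)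
    rw [this] at hc1
    exact hc1
  have hle : S₀ ≤ Subgroup.centralizer ({z} : Set K) := Subgroup.map_subtype_le _
  have hSeq : (S : Subgroup K) = S₀ := by
    by_contra hne
    obtain ⟨x, hx, hx0⟩ := SetLike.exists_of_lt
      (Fusion.lt_inf_normalizer_of_isPGroup S.2 (lt_of_le_of_ne hS (Ne.symm hne)))
    obtain ⟨hxS, hxN⟩ := hx
    have hw : x * z * x⁻¹ ∈ S₀ := (Subgroup.mem_normalizer_iff.1 hxN z).1 hzS
    let m : ↥(Subgroup.centralizer ({z} : Set K)) := ⟨x * z * x⁻¹, hle hw⟩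
    have hsq : m * m = 1 := Subtype.ext (by
      show x * z * x⁻¹ * (x * z * x⁻¹) = 1
      rw [show x * z * x⁻¹ * (x * z * x⁻¹) = x * (z * z) * x⁻¹ by group, H.z_sq, mul_one, mul_inv_cancel])
    have hxS' : x * z * x⁻¹ ∈ S₀ := hw
    have hmem : ∀ y, y ∈ S₀ → ∀ hy : y ∈ Subgroup.centralizer ({z} : Set K), toQ (π ⟨y, hy⟩) ∈ syl := by
      rintro y ⟨c, ⟨c', -, rfl⟩, rfl⟩ hy
      exact c'.2
    have hmz : toQ (π m) = qneg := by
      refine syl_center _ (hmem _ hw _) (by rw [← toQ_mul, ← map_mul, hsq, map_one, toQ_one]) (fun he => ?_)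
        fun b hb => ?_
      · have := H.eq_one (MonoidHom.mem_ker.2 (toQ_injective (he.trans toQ_one.symm))) hsq
        exact H.z_ne (conj_eq_one_iff.1 (congrArg Subtype.val this))
      · obtain ⟨c, hc1, rfl⟩ := honto b hb
        rw [← toQ_mul, ← toQ_mul, ← map_mul, ← map_mul]
        congr 2
        refine Subtype.ext ?_
        have hb0 : x⁻¹ * c * x ∈ S₀ := (Subgroup.mem_normalizer_iff''.1 hxN _).1 hc1
        have hcm := Subgroup.mem_centralizer_singleton_iff.1 (hle hb0)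
        show x * z * x⁻¹ * c = c * (x * z * x⁻¹)
        calc x * z * x⁻¹ * c = x * (z * (x⁻¹ * c * x)) * x⁻¹ := by group
          _ = x * (x⁻¹ * c * x * z) * x⁻¹ := by rw [hcm]
          _ = c * (x * z * x⁻¹) := by group
    have hxC : x ∈ Subgroup.centralizer ({z} : Set K) :=
      Subgroup.mem_centralizer_singleton_iff.2
        (mul_inv_eq_iff_eq_mul.1 (congrArg Subtype.val (H.eq_z hsq hmz)))
    have hT' : S₀ = (S : Subgroup K) ⊓ Subgroup.centralizer ({z} : Set K) := by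
      refine Subgroup.eq_of_le_of_card_ge (le_inf hS hle) ?_
      obtain ⟨n, hn⟩ := IsPGroup.iff_card.1
        (S.2.to_le (inf_le_left : (S : Subgroup K) ⊓ Subgroup.centralizer ({z} : Set K) ≤ S))
      rw [hn, hS₀c]
      refine Nat.pow_le_pow_right (by norm_num) (by_contra fun h5 => ?_)
      have h32 : 2 ^ 5 ∣ 48 * Nat.card π.ker := (pow_dvd_pow 2 (by omega : 5 ≤ n)).trans
        (hn ▸ H.card_C ▸ Subgroup.card_dvd_of_le inf_le_right)
      have h9 : 2 ^ 5 ∣ 48 :=
        (Nat.Coprime.pow_left 5 (Nat.coprime_two_left.2 H.hodd)).dvd_of_dvd_mul_right h32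
      norm_num at h9
    exact hx0 (hT' ▸ ⟨hxS, hxC⟩)
  have h := (S : Subgroup K).card_mul_index
  rw [hSeq, hS₀c] at h
  have hodd : ¬ 2 ∣ S₀.index := hSeq ▸ S.not_dvd_index
  omega

/-- A lift of a two-element. -/
theorem exists_lift {q : Q} (hq : q ∈ els) (h8 : qpow q 8 = qone) :
    ∃ c : ↥(Subgroup.centralizer ({z} : Set K)), toQ (π c) = q ∧ c ^ 8 = 1 := by
  obtain ⟨g, rfl⟩ := toQ_surj hq
  obtain ⟨c, rfl⟩ := H.hsurj g
  refine ⟨c ^ (Nat.card π.ker * Nat.card π.ker), ?_, ?_⟩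
  · have h8' : π c ^ 8 = 1 := toQ_injective (by rw [toQ_pow, h8, toQ_one])
    obtain ⟨k, hk⟩ := H.hodd
    rw [map_pow, hk, pow_eq_pow_mod _ h8']
    have : (2 * k + 1) * (2 * k + 1) % 8 = 1 := by
      obtain ⟨j, hj⟩ : 2 ∣ k * (k + 1) := (Nat.even_mul_succ_self k).two_dvd
      rw [show (2 * k + 1) * (2 * k + 1) = 8 * j + 1 by nlinarith]
      omega
    rw [this, pow_one]
  · rw [← pow_mul, mul_comm, ← mul_assoc, pow_mul]
    have : c ^ (8 * Nat.card π.ker) = 1 := by
      rw [pow_mul]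
      exact H.pow_card (by rw [MonoidHom.mem_ker, map_pow]; exact toQ_injective (by rw [toQ_pow, h8, toQ_one]))
    rw [this, one_pow]

end Hyp

end Cfsg.Agent.SubdegThree.SDEnd
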